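import Groth.Agent.RedSub.K861.Jac
import Groth.Agent.Sga4h.BidRed538Geo

/-!
# Smooth morphisms of relative dimension at most `D`
-/

set_option autoImplicit false
universe u
open CategoryTheory CategoryTheory.Limits AlgebraicGeometry TopologicalSpace TensorProduct KaehlerDifferential
open Groth.Agent

namespace K861.Rel

/-- `f` is smooth of relative dimensions at most `D`. -/
def RD {X S : Scheme.{u}} (f : X ⟶ S) (D : ℕ) : Prop :=
  ∀ x : X, ∃ m ≤ D, ∃ (V : Scheme.{u}) (v : V ⟶ X), IsOpenImmersion v ∧ x ∈ Set.range v ∧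
    SmoothOfRelativeDimension m (v ≫ f)

variable {X S : Scheme.{u}} {f : X ⟶ S} {D : ℕ}

theorem exists_RD (f : X ⟶ S) [Smooth f] [CompactSpace X] : ∃ D, RD f D := by
  have h := fun x : X => Sga4h.BidRed538Geo.exists_relDim f x
  choose n V hx hV using h
  obtain ⟨s, hs⟩ := isCompact_univ.elim_finite_subcover (fun x => (V x : Set X)) (fun x => (V x).2)
    fun x _ => Set.mem_iUnion.2 ⟨x, hx x⟩
  refine ⟨s.sup n, fun x => ?_⟩
  obtain ⟨y, hy, hxy⟩ := Set.mem_iUnion₂.1 (hs (Set.mem_univ x))
  exact ⟨n y, Finset.le_sup (f := n) hy, _, (V y).ι, inferInstance, by simpa using hxy, hV y⟩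

theorem RD.of_pullback {X' S' : Scheme.{u}} {pr : X' ⟶ X} {f' : X' ⟶ S'} {b : S' ⟶ S} (h : RD f D)
    (H : IsPullback pr f' f b) : RD f' D := by
  intro x
  obtain ⟨m, hm, V, v, hv, hx, hf⟩ := h (pr x)
  refine ⟨m, hm, pullback v pr, pullback.snd v pr, inferInstance, ?_, ?_⟩
  · obtain ⟨y, hy⟩ := hx
    obtain ⟨z, -, hz⟩ := Scheme.Pullback.exists_preimage_pullback y x hy
    exact ⟨z, hz⟩
  · have H1 := (IsPullback.of_hasPullback v pr).paste_vert H
    exact (smoothOfRelativeDimension_isStableUnderBaseChange m).of_isPullback H1 hf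

theorem RD.local {P : MorphismProperty Scheme.{u}} [IsZariskiLocalAtSource P] (h : RD f D)
    (hP : ∀ (m : ℕ), m ≤ D → ∀ {V : Scheme.{u}} (v : V ⟶ X), IsOpenImmersion v →
      SmoothOfRelativeDimension m (v ≫ f) → P (v ≫ f)) : P f := by
  choose m hm V v hv hx hf using h
  let 𝒰 : X.OpenCover := Scheme.Cover.mkOfCovers X V v (fun x => ⟨x, hx x⟩) (fun i => hv i)
  rw [IsZariskiLocalAtSource.iff_of_openCover (P := P) 𝒰]
  intro i
  exact hP (m i) (hm i) (v i) (hv i) (hf i)

theorem RD.smooth (h : RD f D) : Smooth f := by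
  have : IsZariskiLocalAtSource (@Smooth.{u}) := HasRingHomProperty.instIsZariskiLocalAtSource (P := @Smooth.{u})
  exact h.local (P := @Smooth.{u}) fun m _ V v _ hf => hf.smooth m

theorem RD.etale (h : RD f 0) : Etale f := by
  have : IsZariskiLocalAtSource (@Etale.{u}) := HasRingHomProperty.instIsZariskiLocalAtSource (P := @Etale.{u})
  refine h.local (P := @Etale.{u}) fun m hm V v _ hf => ?_
  obtain rfl : m = 0 := Nat.le_zero.1 hm
  rw [Etale.iff_smoothOfRelativeDimension_zero]
  exact hf

variable {A B : Type u} [CommRing A] [CommRing B] [Algebra A B]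

/-- The rank of the differentials at a point, from the relative dimension near the point. -/
theorem finrank_of_srd {X : Scheme.{u}} (f : X ⟶ Spec (CommRingCat.of A)) (w : Spec (CommRingCat.of B) ⟶ X)
    [IsOpenImmersion w] (hw : w ≫ f = Spec.map (CommRingCat.ofHom (algebraMap A B))) (p : PrimeSpectrum B)
    {V : Scheme.{u}} (v : V ⟶ X) [IsOpenImmersion v] (hx : w p ∈ Set.range v) (m : ℕ)
    (hm : SmoothOfRelativeDimension m (v ≫ f)) (K : Type u) [Field K] [Algebra B K]
    (hK : RingHom.ker (algebraMap B K) = p.asIdeal) : Module.finrank K (K ⊗[B] Ω[B⁄A]) = m := by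
  obtain ⟨s, hs, hsV⟩ : ∃ s : B, s ∉ p.asIdeal ∧ ∀ p' : PrimeSpectrum B, s ∉ p'.asIdeal → w p' ∈ Set.range v := by
    have h1 : IsOpen (w ⁻¹' Set.range v) := v.isOpenEmbedding.isOpen_range.preimage w.continuous
    obtain ⟨_, ⟨_, ⟨s, rfl⟩, rfl⟩, h2, h3⟩ := PrimeSpectrum.isBasis_basic_opens.exists_subset_of_mem_open
      (show p ∈ w ⁻¹' Set.range v from hx) h1
    exact ⟨s, h2, fun p' hp' => h3 hp'⟩
  let B' := Localization.Away s
  let ρ : Spec (CommRingCat.of B') ⟶ Spec (CommRingCat.of B) := Spec.map (CommRingCat.ofHom (algebraMap B B'))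
  have hρ : IsOpenImmersion ρ := IsOpenImmersion.of_isLocalization s
  have hrange : Set.range (ρ ≫ w) ⊆ Set.range v := by
    rintro _ ⟨z, rfl⟩
    refine hsV _ ?_
    change s ∉ (PrimeSpectrum.comap (algebraMap B B') z).asIdeal
    intro h
    exact z.isPrime.ne_top (Ideal.eq_top_of_isUnit_mem _ h (IsLocalization.Away.algebraMap_isUnit s))
  let l : Spec (CommRingCat.of B') ⟶ V := IsOpenImmersion.lift v (ρ ≫ w) hrange
  have hl : l ≫ v = ρ ≫ w := IsOpenImmersion.lift_fac _ _ _
  have hlo : IsOpenImmersion l := by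
    have : IsOpenImmersion (l ≫ v) := by rw [hl]; infer_instance
    exact IsOpenImmersion.of_comp l v
  have h1 : SmoothOfRelativeDimension m (Spec.map (CommRingCat.ofHom (algebraMap A B'))) := by
    have h2 : l ≫ v ≫ f = Spec.map (CommRingCat.ofHom (algebraMap A B')) := by
      rw [← Category.assoc, hl, Category.assoc, hw, ← Spec.map_comp, ← CommRingCat.ofHom_comp,
        ← IsScalarTower.algebraMap_eq]
    rw [← h2, ← zero_add m]
    infer_instance
  rw [HasRingHomProperty.Spec_iff (P := @SmoothOfRelativeDimension m)] at h1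
  have hu : IsUnit (algebraMap B K s) := by
    rw [isUnit_iff_ne_zero, Ne, ← RingHom.mem_ker, hK]
    exact hs
  let _ : Algebra B' K := (IsLocalization.Away.lift (S := B') s (g := algebraMap B K) hu).toAlgebra
  have _ : IsScalarTower B B' K := IsScalarTower.of_algebraMap_eq fun x =>
    (IsLocalization.Away.lift_eq (S := B') s (g := algebraMap B K) hu x).symm
  have hfe : Algebra.FormallyEtale B B' := Algebra.FormallyEtale.of_isLocalization (Submonoid.powers s)
  rw [← Jac.finrank_etale (R := A) (B := B) (B' := B') K]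
  have hpr : (RingHom.ker (algebraMap B' K)).IsPrime := RingHom.ker_isPrime _
  obtain ⟨g, hg, hgs⟩ := Sga4B.RelDimUnique.exists_of_locally (RingHom.ker (algebraMap B' K)) m h1
  exact Sga4B.RelDimUnique.finrank_eq K m g hg hgs

variable {C : Type u} [CommRing C] [Algebra B C] [Algebra A C] [IsScalarTower A B C]

/-- Transversal hypersurfaces near a point. -/
theorem exists_section {X : Scheme.{u}} (f : X ⟶ Spec (CommRingCat.of A)) (w : Spec (CommRingCat.of B) ⟶ X)
    [IsOpenImmersion w] (hw : w ≫ f = Spec.map (CommRingCat.ofHom (algebraMap A B))) (D : ℕ) (hD : RD f D)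
    (hsurj : Function.Surjective (algebraMap B C)) (t : B)
    (hJ : RingHom.ker (algebraMap B C) = Ideal.span {t}) (q : PrimeSpectrum C)
    (ht : (1 : (q.asIdeal.comap (algebraMap B C)).ResidueField) ⊗ₜ[B] KaehlerDifferential.D A B t ≠ 0) :
    1 ≤ D ∧ ∃ m ≤ D - 1, ∃ (V : Scheme.{u}) (v : V ⟶ Spec (CommRingCat.of C)), IsOpenImmersion v ∧
      q ∈ Set.range v ∧ SmoothOfRelativeDimension m (v ≫ Spec.map (CommRingCat.ofHom (algebraMap A C))) := by
  let p : PrimeSpectrum B := PrimeSpectrum.comap (algebraMap B C) q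
  let L := q.asIdeal.ResidueField
  have hcomp : algebraMap B L = (algebraMap C L).comp (algebraMap B C) := IsScalarTower.algebraMap_eq _ _ _
  have hker : RingHom.ker (algebraMap B L) = p.asIdeal := by
    ext x
    rw [RingHom.mem_ker, hcomp, RingHom.comp_apply, Ideal.algebraMap_residueField_eq_zero]
    rfl
  obtain ⟨m, hm, V, v, hv, hx, hf⟩ := hD (w p)
  have h1 := finrank_of_srd f w hw p v hx m hf L hker
  have hsm : Algebra.Smooth A B := by
    have h2 := hD.smooth
    have h3 : Smooth (Spec.map (CommRingCat.ofHom (algebraMap A B))) := by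
      rw [← hw]; infer_instance
    rw [HasRingHomProperty.Spec_iff (P := @Smooth)] at h3
    exact RingHom.smooth_algebraMap.1 h3
  let _ : Algebra (q.asIdeal.comap (algebraMap B C)).ResidueField L :=
    (Ideal.ResidueField.map (q.asIdeal.comap (algebraMap B C)) q.asIdeal (algebraMap B C) rfl).toAlgebra
  have _ : IsScalarTower B (q.asIdeal.comap (algebraMap B C)).ResidueField L :=
    IsScalarTower.of_algebraMap_eq fun x => by
      rw [hcomp]
      exact (Ideal.ResidueField.map_algebraMap _ _ _ _ _).symm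
  have h2 := Jac.ne_zero_ext (R := A) (q.asIdeal.comap (algebraMap B C)).ResidueField L t ht
  obtain ⟨h3, g, hg, hgs⟩ := Jac.exists_away (R := A) hsurj t hJ q.asIdeal m h1 h2
  refine ⟨h3.trans hm, m - 1, Nat.sub_le_sub_right hm 1, Spec (CommRingCat.of (Localization.Away g)),
    Spec.map (CommRingCat.ofHom (algebraMap C (Localization.Away g))), IsOpenImmersion.of_isLocalization g, ?_, ?_⟩
  · have h4 : q ∈ Set.range (PrimeSpectrum.comap (algebraMap C (Localization.Away g))) := by
      rw [PrimeSpectrum.localization_away_comap_range (Localization.Away g) g]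
      exact hg
    exact h4
  · rw [← Spec.map_comp, ← CommRingCat.ofHom_comp, ← IsScalarTower.algebraMap_eq,
      HasRingHomProperty.Spec_iff (P := @SmoothOfRelativeDimension (m - 1))]
    exact RingHom.locally_of RingHom.isStandardSmoothOfRelativeDimension_respectsIso _
      ((RingHom.isStandardSmoothOfRelativeDimension_algebraMap _).2 hgs)

end K861.Rel
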