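import Groth.Agent.RedSub.K861.ProjSec
import Groth.Agent.RedSub.K861.Rel
import Groth.Agent.Lefpen.H872.RelBase
import Groth.Agent.Fga.GrSysBC
import Groth.Agent.SmVar.K658.SecSmooth

/-!
# Base change of closed subschemes of projective space and of the standard charts
-/

set_option autoImplicit false
universe u
open CategoryTheory CategoryTheory.Limits AlgebraicGeometry TopologicalSpace Opposite HomogeneousLocalization
open Groth.Agent Groth.Agent.VarietyB Groth.Agent.VarietyB.ProjHom Groth.Agent.VarietyB.ProjGlue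
open Groth.Agent.Ega2.H298.ProjRatio Groth.Agent.Ega2.H298.ProjExt
open Groth.Agent.Lefpen.H872.RelCI Groth.Agent.Lefpen.H872.RelBase Groth.Agent.CohqB.ProjBC
open K861.ProjSec

namespace K861.BC

section one

variable {k : Type u} [CommRing k] {n : ℕ} {X : Scheme.{u}} (ι : X ⟶ CohB1.ProjSpace n k) (j : Fin (n + 1))

theorem θ_eq (h : RForm n k 1) : θ ι j h = (ι.app (rchart n k j)).hom (rdehom h j) :=
  θ_lin ι j h

theorem isAffineOpen_W' [hι : IsClosedImmersion ι] : IsAffineOpen (W ι j) :=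
  @isAffineOpen_W _ _ _ _ ι j hι

theorem algebraMap_alg' : @algebraMap k Γ(X, W ι j) _ _ (alg ι j) =
    CoordData.baseHom (ι ≫ CohB1.ProjSpace.toSpec n k) (W ι j) :=
  algebraMap_alg ι j

end one

theorem equiv_of_isPushout {A A' B B' : Type u} [CommRing A] [CommRing A'] [CommRing B] [CommRing B']
    [Algebra A A'] [Algebra A B] [Algebra A' B'] (ψ : B →+* B')
    (h1 : IsPushout (CommRingCat.ofHom (algebraMap A A')) (CommRingCat.ofHom (algebraMap A B))
      (CommRingCat.ofHom (algebraMap A' B')) (CommRingCat.ofHom ψ)) :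
    ∃ e : TensorProduct A A' B ≃ₐ[A'] B', ∀ b, e (1 ⊗ₜ b) = ψ b := by
  let _ : Algebra B B' := ψ.toAlgebra
  let _ : Algebra A B' := ((algebraMap A' B').comp (algebraMap A A')).toAlgebra
  have _ : IsScalarTower A A' B' := IsScalarTower.of_algebraMap_eq fun x => rfl
  have _ : IsScalarTower A B B' := IsScalarTower.of_algebraMap_eq fun x =>
    ConcreteCategory.congr_hom h1.w x
  have h2 : Algebra.IsPushout A A' B B' := CommRingCat.isPushout_iff_isPushout.1 h1
  refine ⟨Algebra.IsPushout.equiv A A' B B', fun b => ?_⟩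
  rw [Algebra.IsPushout.equiv_tmul, map_one, one_mul]
  rfl

section bc

variable {A A' : Type u} [CommRing A] [CommRing A'] {φ : A →+* A'} {n : ℕ} {X X' : Scheme.{u}}
  {ι : X ⟶ CohB1.ProjSpace n A} {ι' : X' ⟶ CohB1.ProjSpace n A'} {pr : X' ⟶ X}
  (H : IsPullback pr ι' ι (pmap φ n))

include H in
theorem preimage_W (j : Fin (n + 1)) : pr ⁻¹ᵁ W ι j = W ι' j := by
  have h1 : (pr ≫ ι) ⁻¹ᵁ rchart n A j = (ι' ≫ pmap φ n) ⁻¹ᵁ rchart n A j := by rw [H.w]
  have h2 : pmap φ n ⁻¹ᵁ rchart n A j = rchart n A' j := preimage_chart φ j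
  change pr ⁻¹ᵁ (ι ⁻¹ᵁ rchart n A j) = ι' ⁻¹ᵁ rchart n A' j
  rw [← h2]
  exact h1

theorem appLE_θ (j : Fin (n + 1)) (h : RForm n A 1) :
    (pr.appLE (W ι j) (W ι' j) (preimage_W H j).ge).hom (θ ι j h) = θ ι' j (mapForm φ h) := by
  have e0 : W ι' j ≤ (pr ≫ ι) ⁻¹ᵁ rchart n A j := (preimage_W H j).ge
  have e0' : W ι' j ≤ (ι' ≫ pmap φ n) ⁻¹ᵁ rchart n A j := by rw [← H.w]; exact e0
  have e1 : ι.app (rchart n A j) ≫ pr.appLE (W ι j) (W ι' j) (preimage_W H j).ge =
      (pr ≫ ι).appLE (rchart n A j) (W ι' j) e0 := (Scheme.Hom.comp_appLE _ _ _ _ _).symm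
  have e2 : (pmap φ n).appLE (rchart n A j) (rchart n A' j) (preimage_chart φ j).ge ≫ ι'.app (rchart n A' j) =
      (ι' ≫ pmap φ n).appLE (rchart n A j) (W ι' j) e0' := by
    have h1 := Scheme.Hom.appLE_comp_appLE ι' (pmap φ n) (rchart n A j) (rchart n A' j) (W ι' j)
      (preimage_chart φ j).ge le_rfl
    rw [← h1]
    congr 1
    exact Scheme.Hom.app_eq_appLE _
  have e3 : (pr ≫ ι).appLE (rchart n A j) (W ι' j) e0 = (ι' ≫ pmap φ n).appLE (rchart n A j) (W ι' j) e0' := by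
    simp only [H.w]
  have h1 := e1.trans (e3.trans e2.symm)
  have h2 := ConcreteCategory.congr_hom h1 (rdehom h j)
  have h3 := appLE_dehom φ h j
  rw [θ_eq, θ_eq, ← h3]
  exact h2

include H in
theorem isPullback_spec : IsPullback pr (ι' ≫ CohB1.ProjSpace.toSpec n A') (ι ≫ CohB1.ProjSpace.toSpec n A)
    (Spec.map (CommRingCat.ofHom φ)) :=
  H.paste_vert (isPullback_pmap φ n)

theorem isPushout_alg [IsClosedImmersion ι] (j : Fin (n + 1)) :
    IsPushout (CommRingCat.ofHom φ) (CommRingCat.ofHom (CoordData.baseHom (ι ≫ CohB1.ProjSpace.toSpec n A) (W ι j)))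
      (CommRingCat.ofHom (CoordData.baseHom (ι' ≫ CohB1.ProjSpace.toSpec n A') (W ι' j)))
      (pr.appLE (W ι j) (W ι' j) (preimage_W H j).ge) := by
  have key : ∀ (V : X'.Opens) (hV : pr ⁻¹ᵁ W ι j = V),
      IsPushout (CommRingCat.ofHom φ)
      (CommRingCat.ofHom (CoordData.baseHom (ι ≫ CohB1.ProjSpace.toSpec n A) (W ι j)))
      (CommRingCat.ofHom (CoordData.baseHom (ι' ≫ CohB1.ProjSpace.toSpec n A') V))
      (pr.appLE (W ι j) V hV.ge) := by
    rintro V rfl
    exact Groth.Agent.Fga.GrSys.isPushout_coeff (isPullback_spec H) (isAffineOpen_W' ι j)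
  exact key _ (preimage_W H j)

/-- The rings of the charts after base change. -/
theorem exists_equiv [Algebra A A'] (hφ : φ = algebraMap A A') [IsClosedImmersion ι] (j : Fin (n + 1)) :
    letI := alg ι j
    letI := alg ι' j
    ∃ e : TensorProduct A A' Γ(X, W ι j) ≃ₐ[A'] Γ(X', W ι' j),
      ∀ b, e (1 ⊗ₜ b) = (pr.appLE (W ι j) (W ι' j) (preimage_W H j).ge).hom b := by
  let _ := alg ι j
  let _ := alg ι' j
  subst hφ
  refine equiv_of_isPushout (pr.appLE (W ι j) (W ι' j) (preimage_W H j).ge).hom ?_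
  rw [algebraMap_alg', algebraMap_alg']
  exact isPushout_alg H j

end bc

end K861.BC
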