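import Groth.Agent.RedSub.K861.BorRank

/-!
# The rank of the scheme of Borel subgroups is locally constant on the base
-/

set_option autoImplicit false
universe u

open CategoryTheory CategoryTheory.Limits AlgebraicGeometry Opposite MonoidalCategory CartesianMonoidalCategory
  MonObj GrpObj TensorProduct

namespace K861.BorRank

open Groth.Agent
open Groth.Agent.RedSub.H647.SubPt Groth.Agent.RedSub.H647.SubF Groth.Agent.RedSub.H646.DeltaRing
  Groth.Agent.RedSub.H646.InfPt Groth.Agent.RedSub.H646.PtsRep Groth.Agent.RedSub.H646.DeltaSch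
  Groth.Agent.RedSub.H646.LocConj Groth.Agent.RedSub.H646.ConjInf Groth.Agent.RedSub.H646.SubAlg
  Groth.Agent.RedSub.H646.Glob Groth.Agent.RedSub.H646.LocalBor Groth.Agent.RedSub.H660.Classes
  Groth.Agent.Sga3B.Cell Groth.Agent.Sga3B Groth.Agent.Sga3B.BcPts Groth.Agent.Sga3B.MT
  Groth.Agent.Sga3B.RepDescent
open Groth.Agent.Books.AffBridge
open Groth.Agent.Fga.GrassBasic
open Groth.Agent.RedSub.H646

variable {S : Scheme.{u}} {R : Type u} [CommRing R] {v : Spec (CommRingCat.of R) ⟶ S} {G : Over S} [GrpObj G]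
  {R₀ : Type u} [CommRing R₀] [Algebra R R₀] {A : Type u} [CommRing A] [Algebra R A] [PtGrp R A]
  (K : AffChart v G A) {𝒬 : SubClass G} {n k : ℕ} (bs : Gen (Fin k) R (Wn R A n))
  (x₀ : 𝒬.subsF.obj (op ((Over.map v).obj (SpecOver R R₀))))

/-- The rank is constant on the fibres. -/
theorem rk_eq (hP : Module.Projective R₀ ((Fin k → R₀) ⧸ Lsub bs (trunc n (condX K x₀ (𝟙 _)))))
    (he : Etale (SpecOver R R₀).hom)
    (hL : ∀ {R₁ : Type u} [CommRing R₁] [Algebra R R₁] (x₁ : 𝒬.subsF.obj (op ((Over.map v).obj (SpecOver R R₁)))),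
      LocConj.LocConj K (fun _ : Unit => x₁)) (q q' : PrimeSpectrum R₀)
    (h : (SpecOver R R₀).hom q = (SpecOver R R₀).hom q') : rk K bs x₀ q = rk K bs x₀ q' := by
  let π : Spec (CommRingCat.of R₀) ⟶ Spec (CommRingCat.of R) := (SpecOver R R₀).hom
  obtain ⟨z, hz, hz'⟩ := Scheme.Pullback.exists_preimage_pullback (f := π) (g := π) q q' h
  let κ : CommRingCat.{u} := (pullback π π).residueField z
  let a : Spec κ ⟶ Spec (CommRingCat.of R₀) := (pullback π π).fromSpecResidueField z ≫ pullback.fst π π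
  let a' : Spec κ ⟶ Spec (CommRingCat.of R₀) := (pullback π π).fromSpecResidueField z ≫ pullback.snd π π
  let w : Spec κ ⟶ Spec (CommRingCat.of R) := a ≫ π
  have hw : a' ≫ π = w := by
    simp only [a, a', w, Category.assoc, pullback.condition]
  have ha : ∀ p : Spec κ, a p = q := fun p => by
    rw [Scheme.Hom.comp_apply, Scheme.fromSpecResidueField_apply, hz]
  have ha' : ∀ p : Spec κ, a' p = q' := fun p => by
    rw [Scheme.Hom.comp_apply, Scheme.fromSpecResidueField_apply, hz']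
  have hr : HasRank K 𝒬 bs w (rk K bs x₀ q) := hasRank_part K bs x₀ hP w he hL _ fun p =>
    ⟨q, by rw [Scheme.Hom.comp_apply, ha]; rfl, rfl⟩
  let _ : Algebra R κ := algOf w
  have hκ : (SpecOver R κ).hom = w := Spec.map_preimage w
  let T : Over (Spec κ) := Over.mk (𝟙 (Spec κ))
  let g : (Over.map w).obj T ⟶ SpecOver R R₀ := Over.homMk a' (by
    change a' ≫ π = 𝟙 _ ≫ w
    rw [hw, Category.id_comp])
  let t : SpecOver R κ ⟶ (Over.map w).obj T := Over.homMk (𝟙 (Spec κ)) (by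
    change 𝟙 _ ≫ 𝟙 _ ≫ w = (SpecOver R κ).hom
    rw [hκ, Category.id_comp, Category.id_comp])
  have h1 := hr T (𝒬.subsF.map ((Over.map v).map g).op x₀) κ t
  obtain ⟨ρ, hρ⟩ := (specEquiv R).surjective (t ≫ g)
  change specMap R ρ = t ≫ g at hρ
  obtain ⟨I, hI⟩ := exists_isRep_condX K x₀ (𝟙 _)
  have h2 : condX K x₀ (t ≫ g) = (condX K x₀ (𝟙 _)).bc ρ := by
    rw [← hρ, ← condX_bc, Category.comp_id]
  rw [condX_map, h2, trunc_bc, Lsub_bc (IsRep.trunc hI n)] at h1
  let p₀ : PrimeSpectrum κ := ⊥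
  have h3 := h1.rank p₀
  rw [rank_bc'] at h3
  have h4 : PrimeSpectrum.comap (ρ : R₀ →+* κ) p₀ = q' := by
    have h5 : (specMap R ρ).left p₀ = q' := by
      rw [hρ]
      change (𝟙 (Spec κ) ≫ a') p₀ = q'
      rw [Category.id_comp]
      exact ha' _
    exact h5
  rw [h4] at h3
  exact h3.symm

/-- The parts of constant rank are open and closed in the base. -/
theorem exists_clopen (hP : Module.Projective R₀ ((Fin k → R₀) ⧸ Lsub bs (trunc n (condX K x₀ (𝟙 _)))))
    (he : Etale (SpecOver R R₀).hom) (hs : Surjective (SpecOver R R₀).hom)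
    (hL : ∀ {R₁ : Type u} [CommRing R₁] [Algebra R R₁] (x₁ : 𝒬.subsF.obj (op ((Over.map v).obj (SpecOver R R₁)))),
      LocConj.LocConj K (fun _ : Unit => x₁)) (p : PrimeSpectrum R) :
    ∃ e : R, IsIdempotentElem e ∧ e ∉ p.asIdeal ∧ ∃ d : ℕ, ∀ p' : PrimeSpectrum R, e ∉ p'.asIdeal →
      ∃ q : PrimeSpectrum R₀, (SpecOver R R₀).hom q = p' ∧ rk K bs x₀ q = d := by
  have hsur : ∀ p : PrimeSpectrum R, ∃ q : PrimeSpectrum R₀, (SpecOver R R₀).hom q = p :=
    fun p => (SpecOver R R₀).hom.surjective p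
  choose s hs' using hsur
  let ρ : PrimeSpectrum R → ℕ := fun p => rk K bs x₀ (s p)
  have hρ : ∀ q : PrimeSpectrum R₀, ρ ((SpecOver R R₀).hom q) = rk K bs x₀ q := fun q =>
    rk_eq K bs x₀ hP he hL _ _ (hs' _)
  have hopen : ∀ d : ℕ, IsOpen {p : PrimeSpectrum R | ρ p = d} := by
    intro d
    have h1 : {p : PrimeSpectrum R | ρ p = d} = (SpecOver R R₀).hom '' {q : PrimeSpectrum R₀ | rk K bs x₀ q = d} := by
      ext p
      constructor
      · intro hp
        exact ⟨s p, hp, hs' p⟩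
      · rintro ⟨q, hq, rfl⟩
        exact (hρ q).trans hq
    rw [h1]
    have hm : IsOpenMap (SpecOver R R₀).hom := (SpecOver R R₀).hom.isOpenMap
    exact hm _ ((isLocallyConstant_rk K bs x₀ hP).isOpen_fiber d)
  have hclopen : IsClopen {p' : PrimeSpectrum R | ρ p' = ρ p} := by
    refine ⟨⟨?_⟩, hopen _⟩
    have h1 : {p' : PrimeSpectrum R | ρ p' = ρ p}ᶜ = ⋃ d ∈ {d : ℕ | d ≠ ρ p}, {p' : PrimeSpectrum R | ρ p' = d} := by
      ext p'
      simp
    rw [h1]
    exact isOpen_biUnion fun d _ => hopen d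
  obtain ⟨e, he', h2⟩ := PrimeSpectrum.exists_idempotent_basicOpen_eq_of_isClopen hclopen
  have h3 : ∀ p' : PrimeSpectrum R, e ∉ p'.asIdeal ↔ ρ p' = ρ p := fun p' => by
    have h3 : p' ∈ {p' : PrimeSpectrum R | ρ p' = ρ p} ↔ p' ∈ (PrimeSpectrum.basicOpen e : Set _) := by rw [h2]
    exact h3.symm
  exact ⟨e, he', (h3 p).2 rfl, ρ p, fun p' hp' => ⟨s p', hs' p', (h3 p').1 hp'⟩⟩

end K861.BorRank
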