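import Groth.Agent.CalgB.PopEnlarge
import Mathlib.FieldTheory.Finite.Extension
import Mathlib.FieldTheory.PrimitiveElement
import Mathlib.RingTheory.QuasiFinite.Basic
import Mathlib.RingTheory.Spectrum.Maximal.Localization

/-!
# Finite etale extensions of semi-local rings enlarging the finite residue fields
-/

set_option autoImplicit false
universe u
open Polynomial Function

namespace K861.Poly

/-- Separable polynomials of every degree, irreducible over finite fields. -/
theorem exists_poly (κ : Type u) [Field κ] (N : ℕ) (hN : 0 < N) :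
    ∃ f : κ[X], f.Monic ∧ f.natDegree = N ∧ f.Separable ∧ (Finite κ → Irreducible f) := by
  rcases finite_or_infinite κ with h | h
  · obtain ⟨p, hp⟩ := CharP.exists κ
    have hp0 : p.Prime := CharP.char_is_prime κ p
    have : Fact p.Prime := ⟨hp0⟩
    have : NeZero N := ⟨hN.ne'⟩
    obtain ⟨α, hα⟩ := Field.exists_primitive_element κ (FiniteField.Extension κ p N)
    have hint : IsIntegral κ α := Algebra.IsIntegral.isIntegral α
    refine ⟨minpoly κ α, minpoly.monic hint, ?_, ?_, fun _ => minpoly.irreducible hint⟩
    · rw [← IntermediateField.adjoin.finrank hint, hα, IntermediateField.finrank_top',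
        FiniteField.finrank_extension]
    · exact PerfectField.separable_of_irreducible (minpoly.irreducible hint)
  · let a := Infinite.natEmbedding κ
    refine ⟨∏ i : Fin N, (X - C (a i)), ?_, ?_, ?_, fun h' => (not_finite κ).elim⟩
    · exact monic_prod_of_monic _ _ fun i _ => monic_X_sub_C _
    · rw [natDegree_prod_of_monic _ _ fun i _ => monic_X_sub_C _]
      simp
    · rw [separable_prod_X_sub_C_iff]
      exact fun i j h => Fin.ext (a.injective h)

variable {A : Type u} [CommRing A]

/-- Lifting monic polynomials from the residue fields of a semi-local ring. -/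
theorem exists_lift [Finite (MaximalSpectrum A)] (N : ℕ) (f : ∀ m : MaximalSpectrum A, (A ⧸ m.asIdeal)[X])
    (hf : ∀ m, (f m).Monic) (hN : ∀ m, (f m).natDegree = N) :
    ∃ g : A[X], g.Monic ∧ (Nontrivial A → g.natDegree = N) ∧ ∀ m : MaximalSpectrum A,
      g.map (Ideal.Quotient.mk m.asIdeal) = f m := by
  have hcop : Pairwise (IsCoprime on (fun m : MaximalSpectrum A => m.asIdeal)) := fun m m' h =>
    Ideal.isCoprime_of_isMaximal fun h' => h (MaximalSpectrum.ext h')
  have key : ∀ i : ℕ, ∃ a : A, ∀ m : MaximalSpectrum A, Ideal.Quotient.mk m.asIdeal a = (f m).coeff i := fun i =>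
    Ideal.pi_quotient_surjective hcop fun m => (f m).coeff i
  choose a ha using key
  let g : A[X] := X ^ N + ∑ i : Fin N, C (a i) * X ^ (i : ℕ)
  have hdeg : (∑ i : Fin N, C (a i) * X ^ (i : ℕ) : A[X]).degree < N := by
    rcases Nat.eq_zero_or_pos N with rfl | hN0
    · simp
    · refine (degree_sum_le _ _).trans_lt ((Finset.sup_lt_iff (by exact_mod_cast WithBot.bot_lt_coe N)).2 fun i _ => ?_)
      refine (degree_C_mul_X_pow_le _ _).trans_lt ?_
      exact_mod_cast i.2
  have hmon : g.Monic := monic_X_pow_add hdeg
  refine ⟨g, hmon, fun _ => ?_, fun m => ?_⟩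
  · rw [natDegree_eq_of_degree_eq_some]
    rw [degree_add_eq_left_of_degree_lt, degree_X_pow]
    rw [degree_X_pow]; exact hdeg
  · have hmN := (hf m).as_sum
    rw [hN m] at hmN
    rw [hmN]
    simp only [g, Polynomial.map_add, Polynomial.map_pow, map_X, Polynomial.map_sum, Polynomial.map_mul, map_C]
    congr 1
    rw [Finset.sum_range]
    exact Finset.sum_congr rfl fun i _ => by rw [ha]

/-- Separability of a monic polynomial can be tested at the maximal ideals. -/
theorem separable_of_map (g : A[X]) (hg : g.Monic)
    (h : ∀ m : MaximalSpectrum A, (g.map (Ideal.Quotient.mk m.asIdeal)).Separable) : g.Separable := by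
  rw [Polynomial.Separable, ← Ideal.isCoprime_span_singleton_iff, Ideal.isCoprime_iff_sup_eq]
  by_contra hne
  obtain ⟨M, hM, hle⟩ := Ideal.exists_le_maximal _ hne
  have hgM : g ∈ M := hle (Ideal.mem_sup_left (Ideal.mem_span_singleton_self _))
  have hgM' : derivative g ∈ M := hle (Ideal.mem_sup_right (Ideal.mem_span_singleton_self _))
  have hMp : M.IsPrime := hM.isPrime
  let m : Ideal A := M.comap C
  have hm : m.IsMaximal := by
    have hint : (Ideal.quotientMap M C (le_refl m) : A ⧸ m →+* A[X] ⧸ M).IsIntegral := by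
      refine RingHom.IsIntegral.tower_top (Ideal.Quotient.mk m) _ ?_
      have h1 : ((Ideal.quotientMap M C (le_refl m)).comp (Ideal.Quotient.mk m)) =
          (Ideal.Quotient.mk M).comp C := by
        ext x; simp
      rw [h1]
      have h2 : (Ideal.Quotient.mk M).comp C = ((Ideal.Quotient.factor (S := Ideal.span {g}) (T := M)
          ((Ideal.span_singleton_le_iff_mem _).2 hgM))).comp (AdjoinRoot.of g) := rfl
      rw [h2]
      refine RingHom.IsIntegral.trans _ _ ?_ ?_
      · have := hg.finite_adjoinRoot
        have h3 : Algebra.IsIntegral A (AdjoinRoot g) := inferInstance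
        exact algebraMap_isIntegral_iff.2 h3
      · exact RingHom.isIntegral_of_surjective _ (Ideal.Quotient.factor_surjective _)
    have hbot : (⊥ : Ideal (A[X] ⧸ M)).IsMaximal := (Ideal.bot_quotient_isMaximal_iff M).2 hM
    have h4 := Ideal.isMaximal_comap_of_isIntegral_of_isMaximal' (Ideal.quotientMap M C (le_refl m)) hint ⊥
    rw [← RingHom.ker_eq_comap_bot, (RingHom.injective_iff_ker_eq_bot _).1
      (Ideal.quotientMap_injective), Ideal.bot_quotient_isMaximal_iff] at h4
    exact h4
  obtain ⟨a, b, hab⟩ := h ⟨m, hm⟩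
  obtain ⟨a, rfl⟩ := Polynomial.map_surjective (Ideal.Quotient.mk m) Ideal.Quotient.mk_surjective a
  obtain ⟨b, rfl⟩ := Polynomial.map_surjective (Ideal.Quotient.mk m) Ideal.Quotient.mk_surjective b
  rw [derivative_map, ← Polynomial.map_mul, ← Polynomial.map_mul, ← Polynomial.map_add] at hab
  have h5 : (a * g + b * derivative g - 1).map (Ideal.Quotient.mk m) = 0 := by
    rw [Polynomial.map_sub, hab, Polynomial.map_one, sub_self]
  have h6 : a * g + b * derivative g - 1 ∈ M := by
    have h7 : a * g + b * derivative g - 1 ∈ RingHom.ker (mapRingHom (Ideal.Quotient.mk m)) := h5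
    rw [Polynomial.ker_mapRingHom, Ideal.mk_ker] at h7
    exact (Ideal.map_le_iff_le_comap.2 (le_refl m)) h7
  refine hM.ne_top ((Ideal.eq_top_iff_one _).2 ?_)
  have h8 := M.sub_mem (M.add_mem (M.mul_mem_left a hgM) (M.mul_mem_left b hgM')) h6
  rwa [sub_sub_cancel] at h8

/-- Finite algebras over semi-local rings are semi-local. -/
theorem finite_maximal (hA : {m : Ideal A | m.IsMaximal}.Finite) (B : Type u) [CommRing B] [Algebra A B]
    [Module.Finite A B] : {m : Ideal B | m.IsMaximal}.Finite := by
  refine Set.Finite.subset (Set.Finite.biUnion hA (t := fun m => m.primesOver B) fun m hm => ?_) ?_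
  · exact Algebra.QuasiFinite.finite_primesOver m
  · intro m' hm'
    have : m'.IsMaximal := hm'
    refine Set.mem_biUnion (x := m'.under A) ?_ ⟨inferInstance, ⟨rfl⟩⟩
    exact Ideal.isMaximal_comap_of_isIntegral_of_isMaximal m'

end K861.Poly
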