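import Groth.Agent.RedSub.K861.CoverGeo
import Groth.Agent.S4997
import Groth.Agent.Flat2B.RepPred
import Mathlib.AlgebraicGeometry.ZariskisMainTheorem

/-!
# Finite etale multisections of smooth projective schemes over a semi-local base
-/

set_option autoImplicit false
universe u
open CategoryTheory CategoryTheory.Limits AlgebraicGeometry TopologicalSpace Opposite
open Groth.Agent Groth.Agent.VarietyB Groth.Agent.VarietyB.ProjHom Groth.Agent.VarietyB.ProjGlue
open Groth.Agent.Lefpen.H872.RelCI Groth.Agent.Lefpen.H872.RelBase Groth.Agent.CohqB.ProjBC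
open K861.ProjSec K861.BC K861.Rel K861.Sect K861.CoverGeo

namespace K861.Main

/-- An open and closed part which does not meet a hyperplane is finite etale over the base. -/
theorem finite_etale_clopen {A : Type u} [CommRing A] {n : ℕ} {X : Scheme.{u}} (ι : X ⟶ CohB1.ProjSpace n A)
    [IsClosedImmersion ι] [Smooth (ι ≫ CohB1.ProjSpace.toSpec n A)] (h : RForm n A 1) (U : X.Opens)
    (hU : IsClosed (U : Set X)) (hUh : ∀ x ∈ U, x ∉ (J ι h).support) :
    IsFinite (U.ι ≫ ι ≫ CohB1.ProjSpace.toSpec n A) ∧ Etale (U.ι ≫ ι ≫ CohB1.ProjSpace.toSpec n A) := by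
  let V : X.Opens := ι ⁻¹ᵁ Proj.basicOpen (CohB1.polyGrading n A) h.1
  have haff : IsAffineHom ι := inferInstance
  have hV : IsAffineOpen V := @IsAffineOpen.preimage _ _ _
    (Proj.isAffineOpen_basicOpen (CohB1.polyGrading n A) h.1 h.2 Nat.one_pos) ι haff
  have hUV : U ≤ V := fun x hx => by
    have h1 := hUh x hx
    rw [Sect.mem_support_iff] at h1
    exact h1
  have hc : IsClosedImmersion U.ι := .of_isPreimmersion _ (by rwa [Scheme.Opens.range_ι])
  have hc2 : IsClosedImmersion (X.homOfLE hUV) := by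
    have : IsClosedImmersion (X.homOfLE hUV ≫ V.ι) := by rw [Scheme.homOfLE_ι]; exact hc
    exact IsClosedImmersion.of_comp _ V.ι
  have hVa : IsAffine V := hV
  have hUa : IsAffine U := isAffine_of_isAffineHom (X.homOfLE hUV)
  have hp := isProper_comp ι
  have hp2 : IsProper (U.ι ≫ ι ≫ CohB1.ProjSpace.toSpec n A) := inferInstance
  have hf : IsFinite (U.ι ≫ ι ≫ CohB1.ProjSpace.toSpec n A) :=
    IsFinite.iff_isProper_and_isAffineHom.2 ⟨hp2, inferInstance⟩
  exact ⟨hf, (S4997.result _).2 ⟨inferInstance, ((IsFinite.iff_isProper_and_locallyQuasiFinite _).1 hf).2⟩⟩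

/-- **Finite etale multisections**, by induction on the relative dimension. -/
theorem exists_multisection (D : ℕ) : ∀ {A : Type u} [CommRing A], {m : Ideal A | m.IsMaximal}.Finite →
    ∀ {n : ℕ} {X : Scheme.{u}} (ι : X ⟶ CohB1.ProjSpace n A) [IsClosedImmersion ι],
    RD (ι ≫ CohB1.ProjSpace.toSpec n A) D →
    ∃ (S' : Scheme.{u}) (f : S' ⟶ Spec (CommRingCat.of A)) (σ : S' ⟶ X), IsFinite f ∧ Etale f ∧
      σ ≫ ι ≫ CohB1.ProjSpace.toSpec n A = f ∧ Set.range (ι ≫ CohB1.ProjSpace.toSpec n A) ⊆ Set.range f := by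
  induction D with
  | zero =>
    intro A _ hA n X ι _ hD
    have h1 := hD.etale
    have hp := isProper_comp ι
    refine ⟨X, ι ≫ CohB1.ProjSpace.toSpec n A, 𝟙 X, ?_, h1, Category.id_comp _, subset_rfl⟩
    exact (IsFinite.iff_isProper_and_locallyQuasiFinite _).2 ⟨hp, ((S4997.result _).1 h1).2⟩
  | succ D ih =>
    intro A _ hA n X ι _ hD
    have hsm := hD.smooth
    obtain ⟨A', _, _, hfin, het, hsurj, hA', a, ha⟩ := CoverGeo.exists_cover hA ι
    let φ := algebraMap A A'
    let X' := pullback ι (pmap φ n)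
    let pr : X' ⟶ X := pullback.fst ι (pmap φ n)
    let ι' : X' ⟶ CohB1.ProjSpace n A' := pullback.snd ι (pmap φ n)
    have H : IsPullback pr ι' ι (pmap φ n) := IsPullback.of_hasPullback _ _
    have H' := isPullback_spec H
    have hι' : IsClosedImmersion ι' := inferInstance
    have hD' : RD (ι' ≫ CohB1.ProjSpace.toSpec n A') (D + 1) := hD.of_pullback H'
    have hsm' := hD'.smooth
    have hprop' := isProper_comp ι'
    have hT := ha X' ι' pr H
    have hZ := (RD_section ι' (linF a) (D + 1) hD' hT).1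
    rw [Nat.add_sub_cancel] at hZ
    have hZ' : RD (((J ι' (linF a)).subschemeι ≫ ι') ≫ CohB1.ProjSpace.toSpec n A') D := by
      rw [Category.assoc]; exact hZ
    obtain ⟨S₁, f₁, σ₁, hf₁, he₁, hσ₁, hr₁⟩ := ih hA' ((J ι' (linF a)).subschemeι ≫ ι') hZ'
    -- the complement of the image of the hyperplane section
    let g' := ι' ≫ CohB1.ProjSpace.toSpec n A'
    let gZ := ((J ι' (linF a)).subschemeι ≫ ι') ≫ CohB1.ProjSpace.toSpec n A'
    have hgZp : IsProper gZ := isProper_comp _
    have hgZs : Smooth gZ := hZ'.smooth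
    have hcl : IsClosed (Set.range gZ) := gZ.isClosedMap.isClosed_range
    have hop : IsOpen (Set.range gZ) := gZ.isOpenMap.isOpen_range
    let U : X'.Opens := ⟨g' ⁻¹' (Set.range gZ)ᶜ, hcl.isOpen_compl.preimage g'.continuous⟩
    have hU : IsClosed (U : Set X') := hop.isClosed_compl.preimage g'.continuous
    have hUJ : ∀ x ∈ U, x ∉ (J ι' (linF a)).support := by
      intro x hx hxJ
      rw [← SetLike.mem_coe, ← Scheme.IdealSheafData.range_subschemeι] at hxJ
      obtain ⟨z, rfl⟩ := hxJ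
      apply hx
      refine ⟨z, ?_⟩
      simp only [gZ, g', Scheme.Hom.comp_apply]
    obtain ⟨hf₂, he₂⟩ := finite_etale_clopen ι' (linF a) U hU hUJ
    let f₂ := U.ι ≫ g'
    let b : Spec (CommRingCat.of A') ⟶ Spec (CommRingCat.of A) := Spec.map (CommRingCat.ofHom φ)
    have hbf : IsFinite b := by
      rw [IsFinite.SpecMap_iff]
      exact RingHom.finite_algebraMap.2 hfin
    have hbe : Etale b := by
      rw [HasRingHomProperty.Spec_iff (P := @Etale)]
      exact RingHom.etale_algebraMap.2 het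
    have hF := Flat2B.RepPred.etale_coprod_desc f₁ f₂
    let F : S₁ ⨿ U.toScheme ⟶ Spec (CommRingCat.of A') := coprod.desc f₁ f₂
    have hFf : IsFinite F := inferInstance
    refine ⟨S₁ ⨿ U.toScheme, F ≫ b, coprod.desc (σ₁ ≫ (J ι' (linF a)).subschemeι) U.ι ≫ pr, inferInstance,
      inferInstance, ?_, ?_⟩
    · have h1 : pr ≫ ι ≫ CohB1.ProjSpace.toSpec n A = g' ≫ b := H'.w
      have h2 : coprod.desc (σ₁ ≫ (J ι' (linF a)).subschemeι) U.ι ≫ g' = F := by
        rw [coprod.desc_comp]
        congr 1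
      rw [Category.assoc, h1, ← Category.assoc, h2]
    · rintro _ ⟨x, rfl⟩
      obtain ⟨s', hs'⟩ : ∃ s', b s' = (ι ≫ CohB1.ProjSpace.toSpec n A) x := hsurj _
      obtain ⟨x', hx', hxs⟩ := Scheme.exists_preimage_of_isPullback H' x s' hs'.symm
      have hs : s' ∈ Set.range F := by
        by_cases hh : s' ∈ Set.range gZ
        · obtain ⟨y, hy⟩ := hr₁ hh
          exact ⟨(coprod.inl : S₁ ⟶ _) y, by rw [← Scheme.Hom.comp_apply, coprod.inl_desc, hy]⟩
        · have hxU : x' ∈ U := by
            change g' x' ∉ Set.range gZ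
            rw [hxs]; exact hh
          let x'' : U.toScheme := ⟨x', hxU⟩
          have h3 : ((coprod.inr : U.toScheme ⟶ S₁ ⨿ U.toScheme) ≫ F) x'' = s' := by
            rw [coprod.inr_desc]
            exact hxs
          exact ⟨(coprod.inr : U.toScheme ⟶ S₁ ⨿ U.toScheme) x'', h3⟩
      obtain ⟨y, hy⟩ := hs
      exact ⟨y, by rw [Scheme.Hom.comp_apply, hy, hs']⟩

end K861.Main
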