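import Groth.Agent.RedSub.H646.Final
import Groth.Agent.NonAbH1.K554.EtaleSec
import Groth.Agent.S8511
import Groth.Agent.RedSub.K861.Poly

/-!
# The scheme of Borel subgroups over an affine base: a global model
-/

set_option autoImplicit false
universe u

open CategoryTheory CategoryTheory.Limits AlgebraicGeometry Opposite MonoidalCategory CartesianMonoidalCategory
  MonObj GrpObj TensorProduct

namespace K861.BorModel

open Groth.Agent
open Groth.Agent.RedSub.H647.SubPt Groth.Agent.RedSub.H647.SubF Groth.Agent.RedSub.H646.DeltaRing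
  Groth.Agent.RedSub.H646.InfPt Groth.Agent.RedSub.H646.PtsRep Groth.Agent.RedSub.H646.DeltaSch
  Groth.Agent.RedSub.H646.LocConj Groth.Agent.RedSub.H646.ConjInf Groth.Agent.RedSub.H646.SubAlg
  Groth.Agent.RedSub.H646.Glob Groth.Agent.RedSub.H646.LocalBor Groth.Agent.RedSub.H660.Classes
  Groth.Agent.Sga3B.Cell Groth.Agent.Sga3B Groth.Agent.Sga3B.BcPts Groth.Agent.Sga3B.MT Groth.Agent.Sga3B.RepDescent
open Groth.Agent.Books.AffBridge
open Groth.Agent.Fga.GrassBasic
open Groth.Agent.RedSub.H646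

/-- The scheme of Borel subgroups. -/
theorem exists_scheme {S : Scheme.{u}} {G : Over S} [GrpObj G] (hG : Red.IsReductive G) :
    ∃ M : Over S, Nonempty ((good_isBorel.toClass hG).subsF.RepresentableBy M) ∧ IsProper M.hom ∧ Smooth M.hom ∧
      Surjective M.hom := by
  let 𝒬 := good_isBorel.toClass hG
  obtain ⟨M, ⟨rM⟩, hprop, -⟩ := exists_global (𝒬.isEtSheaf_subsF (good_isBorel.toClass_isLocal hG))
    (Final.exists_good hG)
  have hsm : Smooth M.hom := 𝒬.prop_of_representableBy @Smooth rM fun s => by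
    obtain ⟨V, v, h1, h2, H, _, h, hh⟩ := Final.exists_etale hG s
    obtain ⟨A', q, h3, h4, h5, -⟩ := Final.exists_rep hG v h hh
    exact ⟨V, v, h1, h2, A', h3, h5⟩
  refine ⟨M, ⟨rM⟩, hprop, hsm, ⟨fun s => ?_⟩⟩
  obtain ⟨V, v, h1, ⟨y, hy⟩, H, _, h, hh⟩ := Final.exists_etale hG s
  let x : 𝒬.subsF.obj (op (Over.mk v)) := 𝒬.ofSub (T := Over.mk v) hh
  let σ : Over.mk v ⟶ M := rM.homEquiv.symm x
  refine ⟨σ.left y, ?_⟩
  rw [← Scheme.Hom.comp_apply, Over.w σ]
  exact hy

variable {S : Scheme.{u}} {R : Type u} [CommRing R] {v : Spec (CommRingCat.of R) ⟶ S} {G : Over S} [GrpObj G]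
  {R₀ : Type u} [CommRing R₀] [Algebra R R₀]

/-- A model over an etale algebra, without localization. -/
theorem exists_model (𝒬 : SubClass G) [IsAffineHom G.hom] [Smooth G.hom] (v : Spec (CommRingCat.of R) ⟶ S)
    {B₀ : Over (SpecOver R R₀).left} [GrpObj B₀]
    (b₀ : B₀ ⟶ Red.bc ((SpecOver R R₀).hom ≫ v) G) (hQ : 𝒬.Q ((SpecOver R R₀).hom ≫ v) b₀)
    (hs : Smooth B₀.hom) (hc : ∀ s, ConnectedSpace (Red.geomFibre s B₀).left) :
    ∃ (A : Type u) (_ : CommRing A) (_ : Algebra R A) (_ : PtGrp R A) (K : AffChart v G A) (n : ℕ)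
      (k : ℕ) (bs : Gen (Fin k) R (Wn R A n)),
      Detects (condX K (𝒬.ofSub (T := (Over.map v).obj (SpecOver R R₀)) hQ) (𝟙 _))
        (condX K (𝒬.ofSub (T := (Over.map v).obj (SpecOver R R₀)) hQ) (𝟙 _)) n ∧
      Module.Projective R₀ ((Fin k → R₀) ⧸
        Lsub bs (trunc n (condX K (𝒬.ofSub (T := (Over.map v).obj (SpecOver R R₀)) hQ) (𝟙 _)))) := by
  have hmon : IsMonHom b₀ := 𝒬.isMonHom hQ
  have hcl : IsClosedImmersion b₀.left := 𝒬.isClosedImmersion hQ
  have hpa : IsAffineHom (pullback.snd G.hom v) := MorphismProperty.pullback_snd _ _ inferInstance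
  have haf : IsAffine (Red.bc v G).left := isAffine_of_isAffineHom (pullback.snd G.hom v)
  have hsm : Smooth (Red.bc v G).hom := inferInstanceAs (Smooth (pullback.snd G.hom v))
  obtain ⟨A, _, _, ⟨e⟩⟩ := exists_specOver (Red.bc v G)
  have hA : Algebra.Smooth R A := smooth_of_iso e
  let _ : PtGrp R A := ptGrpOf e
  let K : AffChart v G A := AffChart.ofIso e
  have hx₀ : condX K (𝒬.ofSub (T := (Over.map v).obj (SpecOver R R₀)) hQ) (𝟙 _) = cond K b₀ (𝟙 _) :=
    condX_ofSub K hQ (𝟙 _)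
  obtain ⟨I, hI⟩ := exists_isRep K b₀ (𝟙 _)
  have hs' : Smooth (sH B₀) := hs
  have haf' : IsAffineHom (sH B₀) := by
    have h1 : sH B₀ = b₀.left ≫ pullback.snd G.hom ((SpecOver R R₀).hom ≫ v) := (left_snd b₀).symm
    have h2 : IsAffineHom (pullback.snd G.hom ((SpecOver R R₀).hom ≫ v)) :=
      MorphismProperty.pullback_snd _ _ inferInstance
    have h3 : IsAffineHom b₀.left := inferInstance
    rw [h1]
    exact MorphismProperty.comp_mem @IsAffineHom _ _ h3 h2
  have hint : ∀ (L : Type u) [Field L] [IsAlgClosed L] (ξ : Spec (CommRingCat.of L) ⟶ Spec (CommRingCat.of R₀)),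
      IsIntegral (pullback (sH B₀) ξ) := by
    intro L _ _ ξ
    have h1 : IsAffineHom B₀.hom := haf'
    exact Parab.IrrFib.isIntegral_fibre B₀ hc ξ
  have hafB : IsAffine B₀.left := isAffine_of_isAffineHom (sH B₀)
  obtain ⟨n, hn⟩ := exists_detects_of K b₀ haf' hI hs' hint
  have hfin := RankRing.finite_Wn (R := R) (A := A) n
  obtain ⟨k, ⟨bs⟩⟩ := exists_gen R (Wn R A n)
  have hO := smooth_quot K b₀ hI hs'
  refine ⟨A, inferInstance, inferInstance, inferInstance, K, n, k, bs, ?_, ?_⟩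
  · rw [hx₀]; exact hn
  · rw [hx₀]
    have h1 := cond_one K b₀
    obtain ⟨ε, hε⟩ := exists_algHom hI R₀ (1 : Pt R A R₀) h1
    have hT := IsRep.trunc hI n
    obtain ⟨e⟩ := RankRing.exists_equiv_inf hI ε hε hT
    have h2 : Module.Projective R₀ (((R₀ ⊗[R] A) ⧸ I) ⧸ RingHom.ker ε ^ (n + 1)) :=
      Groth.Agent.Sga3A.SmoothSection.projective_quotient_pow ε n
    exact Module.Projective.of_equiv ((quotEquiv hT).trans e).symm

end K861.BorModel
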