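import Groth.Agent.RedSub.K861.BorModel

/-!
# The scheme of Borel subgroups over an affine base: decomposition by the rank
-/

set_option autoImplicit false
universe u

open CategoryTheory CategoryTheory.Limits AlgebraicGeometry Opposite MonoidalCategory CartesianMonoidalCategory
  MonObj GrpObj TensorProduct

namespace K861.BorRank

open Groth.Agent
open Groth.Agent.RedSub.H647.SubPt Groth.Agent.RedSub.H647.SubF Groth.Agent.RedSub.H646.DeltaRing
  Groth.Agent.RedSub.H646.InfPt Groth.Agent.RedSub.H646.PtsRep Groth.Agent.RedSub.H646.DeltaSch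
  Groth.Agent.RedSub.H646.LocConj Groth.Agent.RedSub.H646.ConjInf Groth.Agent.RedSub.H646.SubAlg
  Groth.Agent.RedSub.H646.Glob Groth.Agent.RedSub.H646.LocalBor Groth.Agent.RedSub.H660.Classes
  Groth.Agent.Sga3B.Cell Groth.Agent.Sga3B Groth.Agent.Sga3B.BcPts Groth.Agent.Sga3B.MT
  Groth.Agent.Sga3B.RepDescent
open Groth.Agent.Books.AffBridge
open Groth.Agent.Fga.GrassBasic
open Groth.Agent.RedSub.H646

section ranks

variable {B C : Type u} [CommRing B] [CommRing C] {k : ℕ} (L : Submodule B (Fin k → B))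

/-- The rank of the quotient at a point after base change. -/
theorem rank_bc [Algebra B C] [Module.Projective B ((Fin k → B) ⧸ L)] (p : PrimeSpectrum C) :
    Module.rankAtStalk (R := C) ((Fin k → C) ⧸ bc (algebraMap B C) L) p =
      Module.rankAtStalk (R := B) ((Fin k → B) ⧸ L) (p.comap (algebraMap B C)) := by
  have h1 := isBaseChange_quotMap (C := C) (piMap B C (Fin k)) (isBaseChange_piMap B C (Fin k)) L
  rw [bc_eq_span, ← Module.rankAtStalk_eq_of_equiv h1.equiv, Module.rankAtStalk_baseChange]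

theorem proj_bc [Algebra B C] [Module.Projective B ((Fin k → B) ⧸ L)] :
    Module.Projective C ((Fin k → C) ⧸ bc (algebraMap B C) L) := by
  have h1 := isBaseChange_quotMap (C := C) (piMap B C (Fin k)) (isBaseChange_piMap B C (Fin k)) L
  rw [bc_eq_span]
  exact Module.Projective.of_equiv h1.equiv

theorem isQuotRank_bc [Algebra B C] [Module.Projective B ((Fin k → B) ⧸ L)] (d : ℕ)
    (h : ∀ p : PrimeSpectrum C, Module.rankAtStalk (R := B) ((Fin k → B) ⧸ L) (p.comap (algebraMap B C)) = d) :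
    IsQuotRank d (bc (algebraMap B C) L) :=
  ⟨proj_bc L, fun p => (rank_bc L p).trans (h p)⟩

/-- The same for a ring homomorphism. -/
theorem rank_bc' (φ : B →+* C) [Module.Projective B ((Fin k → B) ⧸ L)] (p : PrimeSpectrum C) :
    Module.rankAtStalk (R := C) ((Fin k → C) ⧸ bc φ L) p =
      Module.rankAtStalk (R := B) ((Fin k → B) ⧸ L) (p.comap φ) := by
  let _ : Algebra B C := φ.toAlgebra
  exact rank_bc L p

theorem isQuotRank_bc' (φ : B →+* C) [Module.Projective B ((Fin k → B) ⧸ L)] (d : ℕ)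
    (h : ∀ p : PrimeSpectrum C, Module.rankAtStalk (R := B) ((Fin k → B) ⧸ L) (p.comap φ) = d) :
    IsQuotRank d (bc φ L) := by
  let _ : Algebra B C := φ.toAlgebra
  exact isQuotRank_bc L d h

end ranks

variable {S : Scheme.{u}} {R : Type u} [CommRing R] {v : Spec (CommRingCat.of R) ⟶ S} {G : Over S} [GrpObj G]
  {R₀ : Type u} [CommRing R₀] [Algebra R R₀] {A : Type u} [CommRing A] [Algebra R A] [PtGrp R A]
  (K : AffChart v G A) {𝒬 : SubClass G} {n k : ℕ} (bs : Gen (Fin k) R (Wn R A n))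
  (x₀ : 𝒬.subsF.obj (op ((Over.map v).obj (SpecOver R R₀))))

/-- Restriction of the section to an algebra. -/
noncomputable abbrev res {R₁ : Type u} [CommRing R₁] [Algebra R R₁] (ρ : R₀ →ₐ[R] R₁) :
    𝒬.subsF.obj (op ((Over.map v).obj (SpecOver R R₁))) :=
  𝒬.subsF.map ((Over.map v).map (specMap R ρ)).op x₀

theorem condX_res {R₁ : Type u} [CommRing R₁] [Algebra R R₁] (ρ : R₀ →ₐ[R] R₁) :
    condX K (res x₀ ρ) (𝟙 _) = (condX K x₀ (𝟙 _)).bc ρ := by
  rw [condX_map, Category.id_comp, ← condX_bc, Category.comp_id]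

theorem Lsub_res {R₁ : Type u} [CommRing R₁] [Algebra R R₁] (ρ : R₀ →ₐ[R] R₁) :
    Lsub bs (trunc n (condX K (res x₀ ρ) (𝟙 _))) = bc (ρ : R₀ →+* R₁) (Lsub bs (trunc n (condX K x₀ (𝟙 _)))) := by
  obtain ⟨I, hI⟩ := exists_isRep_condX K x₀ (𝟙 _)
  rw [condX_res, trunc_bc, Lsub_bc (IsRep.trunc hI n)]

/-- The rank at a point of `Spec R₀`. -/
noncomputable def rk (q : PrimeSpectrum R₀) : ℕ :=
  Module.rankAtStalk (R := R₀) ((Fin k → R₀) ⧸ Lsub bs (trunc n (condX K x₀ (𝟙 _)))) q

variable (hP : Module.Projective R₀ ((Fin k → R₀) ⧸ Lsub bs (trunc n (condX K x₀ (𝟙 _)))))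

include hP in
theorem isLocallyConstant_rk : IsLocallyConstant (rk K bs x₀) := by
  have h1 : Module.Finite R₀ ((Fin k → R₀) ⧸ Lsub bs (trunc n (condX K x₀ (𝟙 _)))) := inferInstance
  have h2 := Module.finitePresentation_of_projective R₀ ((Fin k → R₀) ⧸ Lsub bs (trunc n (condX K x₀ (𝟙 _))))
  exact Module.isLocallyConstant_rankAtStalk

include hP in
/-- The part of rank `d`. -/
theorem exists_part (d : ℕ) : ∃ e : R₀, IsIdempotentElem e ∧ ∀ q : PrimeSpectrum R₀, e ∉ q.asIdeal ↔ rk K bs x₀ q = d := by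
  have h1 : IsClopen {q : PrimeSpectrum R₀ | rk K bs x₀ q = d} :=
    (isLocallyConstant_rk K bs x₀ hP).isClopen_fiber d
  obtain ⟨e, he, h2⟩ := PrimeSpectrum.exists_idempotent_basicOpen_eq_of_isClopen h1
  refine ⟨e, he, fun q => ?_⟩
  have h3 : q ∈ {q : PrimeSpectrum R₀ | rk K bs x₀ q = d} ↔ q ∈ (PrimeSpectrum.basicOpen e : Set _) := by rw [h2]
  exact h3.symm

theorem range_away (e : R₀) (q : PrimeSpectrum R₀) (hq : e ∉ q.asIdeal) :
    q ∈ Set.range (PrimeSpectrum.comap (algebraMap R₀ (Localization.Away e))) := by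
  rw [PrimeSpectrum.localization_away_comap_range (Localization.Away e) e]
  exact hq

theorem notMem_away (e : R₀) (q : PrimeSpectrum (Localization.Away e)) :
    e ∉ (q.comap (algebraMap R₀ (Localization.Away e))).asIdeal := by
  intro h
  exact q.isPrime.ne_top (Ideal.eq_top_of_isUnit_mem _ h (IsLocalization.Away.algebraMap_isUnit e))

theorem etale_away (he : Etale (SpecOver R R₀).hom) (e : R₀) : Etale (SpecOver R (Localization.Away e)).hom := by
  let ρ₁ : R₀ →ₐ[R] Localization.Away e := IsScalarTower.toAlgHom R R₀ (Localization.Away e)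
  have hopen : IsOpenImmersion (specMap R ρ₁).left :=
    inferInstanceAs (IsOpenImmersion (Spec.map (CommRingCat.ofHom (algebraMap R₀ (Localization.Away e)))))
  have hw : (SpecOver R (Localization.Away e)).hom = (specMap R ρ₁).left ≫ (SpecOver R R₀).hom :=
    (Over.w (specMap R ρ₁)).symm
  rw [hw]
  infer_instance

variable {V : Scheme.{u}} (w : V ⟶ Spec (CommRingCat.of R))

include hP in
/-- The rank of all sections over a scheme over the image of the part of rank `d`. -/
theorem hasRank_part (he : Etale (SpecOver R R₀).hom)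
    (hL : ∀ {R₁ : Type u} [CommRing R₁] [Algebra R R₁] (x₁ : 𝒬.subsF.obj (op ((Over.map v).obj (SpecOver R R₁)))),
      LocConj.LocConj K (fun _ : Unit => x₁)) (d : ℕ)
    (hw : ∀ p : V, ∃ q : PrimeSpectrum R₀, (SpecOver R R₀).hom q = w p ∧ rk K bs x₀ q = d) :
    HasRank K 𝒬 bs w d := by
  obtain ⟨e, he', he2⟩ := exists_part K bs x₀ hP d
  let ρ₁ : R₀ →ₐ[R] Localization.Away e := IsScalarTower.toAlgHom R R₀ (Localization.Away e)
  refine hasRank K bs (etale_away he e) ?_ (hL (res x₀ ρ₁)) fun _ => ?_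
  · intro p
    obtain ⟨q, hq, hd⟩ := hw p
    obtain ⟨q', hq'⟩ := range_away e q ((he2 q).2 hd)
    refine ⟨q', ?_⟩
    rw [← hq, ← hq', ← Over.w (specMap R ρ₁), Scheme.Hom.comp_apply]
    rfl
  · rw [Lsub_res]
    refine isQuotRank_bc' _ _ d fun p => ?_
    exact (he2 _).1 (notMem_away e p)

/-- Sections are determined by their submodules over a scheme over the image. -/
theorem isInj_part (hloc : 𝒬.IsLocal (fun {_ _ _} q => SubClass.EtCov q)) (he : Etale (SpecOver R R₀).hom)
    (hs : Surjective (SpecOver R R₀).hom)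
    (hL : ∀ {R₁ : Type u} [CommRing R₁] [Algebra R R₁] (x₁ : 𝒬.subsF.obj (op ((Over.map v).obj (SpecOver R R₁)))),
      LocConj.LocConj K (fun _ : Unit => x₁))
    (hn : Detects (condX K x₀ (𝟙 _)) (condX K x₀ (𝟙 _)) n) : IsInj K 𝒬 bs w :=
  isInj K bs hloc he (fun p => (SpecOver R R₀).hom.surjective (w p)) (hL x₀) fun _ _ => hn

end K861.BorRank
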