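import Groth.Agent.RedSub.K861.BorClopen

/-!
# Borel subgroups after a finite etale extension of a semi-local base
-/

set_option autoImplicit false
universe u

open CategoryTheory CategoryTheory.Limits AlgebraicGeometry Opposite MonoidalCategory CartesianMonoidalCategory
  MonObj GrpObj TensorProduct

namespace K861.BorSemi

open Groth.Agent
open Groth.Agent.RedSub.H647.SubPt Groth.Agent.RedSub.H647.SubF Groth.Agent.RedSub.H646.DeltaRing
  Groth.Agent.RedSub.H646.InfPt Groth.Agent.RedSub.H646.PtsRep Groth.Agent.RedSub.H646.DeltaSch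
  Groth.Agent.RedSub.H646.LocConj Groth.Agent.RedSub.H646.ConjInf Groth.Agent.RedSub.H646.SubAlg
  Groth.Agent.RedSub.H646.Glob Groth.Agent.RedSub.H646.LocalBor Groth.Agent.RedSub.H660.Classes
  Groth.Agent.Sga3B.Cell Groth.Agent.Sga3B Groth.Agent.Sga3B.BcPts Groth.Agent.Sga3B.MT
  Groth.Agent.Sga3B.RepDescent
open Groth.Agent.Books.AffBridge
open Groth.Agent.Fga.GrassBasic
open Groth.Agent.RedSub.H646 K861.BorRank K861.BorModel

variable {R : Type u} [CommRing R]

/-- Finite etale multisections of the scheme of Borel subgroups near a point. -/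
theorem exists_section_at (hR : {m : Ideal R | m.IsMaximal}.Finite) {G : Over (Spec (CommRingCat.of R))} [GrpObj G]
    (hG : Red.IsReductive G) {M : Over (Spec (CommRingCat.of R))}
    (rM : (good_isBorel.toClass hG).subsF.RepresentableBy M) [hMp : IsProper M.hom] [hMs : Smooth M.hom]
    [hMsur : Surjective M.hom] (p : PrimeSpectrum R) :
    ∃ (S' : Scheme.{u}) (f : S' ⟶ Spec (CommRingCat.of R)) (σ : S' ⟶ M.left), IsFinite f ∧ Etale f ∧
      σ ≫ M.hom = f ∧ p ∈ Set.range f := by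
  let 𝒬 := good_isBorel.toClass hG
  let v : Spec (CommRingCat.of R) ⟶ Spec (CommRingCat.of R) := 𝟙 _
  have h1 : IsAffineHom G.hom := hG.1
  have h2 : Smooth G.hom := hG.2.1
  have hMp' : IsProper (Red.bc v M).hom := inferInstanceAs (IsProper (pullback.snd M.hom v))
  have hMs' : Smooth (Red.bc v M).hom := inferInstanceAs (Smooth (pullback.snd M.hom v))
  have hMsur' : Surjective (Red.bc v M).hom := inferInstanceAs (Surjective (pullback.snd M.hom v))
  obtain ⟨Y, g, hY, hge, hgs, s, hs⟩ := K554.EtaleSec.exists_etale_affine (Red.bc v M).hom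
  let R₀ : Type u := Γ(Y, ⊤)
  let φ : CommRingCat.of R ⟶ Γ(Y, ⊤) := Spec.preimage (Y.isoSpec.inv ≫ g)
  let _ : Algebra R R₀ := φ.hom.toAlgebra
  have hπ : (SpecOver R R₀).hom = Y.isoSpec.inv ≫ g := Spec.map_preimage _
  have hπe' : Etale (Y.isoSpec.inv ≫ g) := MorphismProperty.comp_mem @Etale _ _ inferInstance hge
  have hπs' : Surjective (Y.isoSpec.inv ≫ g) := MorphismProperty.comp_mem @Surjective _ _ inferInstance hgs
  have hπe : Etale (SpecOver R R₀).hom := by rw [hπ]; exact hπe'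
  have hπs : Surjective (SpecOver R R₀).hom := by rw [hπ]; exact hπs'
  let σ₀ : SpecOver R R₀ ⟶ Red.bc v M := Over.homMk (Y.isoSpec.inv ≫ s) (by
    rw [Category.assoc, hs]; exact hπ.symm)
  let x : 𝒬.subsF.obj (op ((Over.map v).obj (SpecOver R R₀))) := (repBC v rM).homEquiv σ₀
  obtain ⟨B₀, _, b₀, hQ, -⟩ := 𝒬.exists_ofSub x
  have hb₀ : Red.IsBorel b₀ := hQ
  obtain ⟨A, _, _, _, K, n, k, bs, hn, hP⟩ := exists_model 𝒬 v (R₀ := R₀) b₀ hQ hb₀.2.2.1
    (fun s => (hb₀.2.2.2 s).2.2.2.1)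
  let x₀ := 𝒬.ofSub (T := (Over.map v).obj (SpecOver R R₀)) hQ
  have hL : ∀ {R₁ : Type u} [CommRing R₁] [Algebra R R₁]
      (x₁ : 𝒬.subsF.obj (op ((Over.map v).obj (SpecOver R R₁)))), LocConj.LocConj K (fun _ : Unit => x₁) :=
    fun x₁ => BorelConj.locConj_borel K hG x₁
  obtain ⟨e, he, hep, d, hd⟩ := exists_clopen K bs x₀ hP hπe hπs hL p
  -- the part of the base
  let R' := R ⧸ Ideal.span {1 - e}
  have hloc : IsLocalization.Away e R' := IsLocalization.Away.quotient_of_isIdempotentElem he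
  let w : Spec (CommRingCat.of R') ⟶ Spec (CommRingCat.of R) := Spec.map (CommRingCat.ofHom (algebraMap R R'))
  have hwo : IsOpenImmersion w := IsOpenImmersion.of_isLocalization e
  have hwf : IsFinite w := by
    rw [IsFinite.SpecMap_iff]
    exact RingHom.finite_algebraMap.2 inferInstance
  have hwe : ∀ p' : PrimeSpectrum R', e ∉ (p'.comap (algebraMap R R')).asIdeal := fun p' h =>
    p'.isPrime.ne_top (Ideal.eq_top_of_isUnit_mem _ h (IsLocalization.Away.algebraMap_isUnit e))
  have hr : HasRank K 𝒬 bs w d := hasRank_part K bs x₀ hP w hπe hL d fun p' => hd _ (hwe p')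
  have hi : IsInj K 𝒬 bs w := isInj_part K bs x₀ w (good_isBorel.toClass_isLocal hG) hπe hπs hL hn
  have hMp2 : IsProper (Red.bc w (Red.bc v M)).hom := inferInstanceAs (IsProper (pullback.snd _ w))
  have hMs2 : Smooth (Red.bc w (Red.bc v M)).hom := inferInstanceAs (Smooth (pullback.snd _ w))
  have hMsur2 : Surjective (Red.bc w (Red.bc v M)).hom := inferInstanceAs (Surjective (pullback.snd _ w))
  have hMp3 : IsProper (Red.bc (𝟙 _) (Red.bc w (Red.bc v M))).hom := inferInstanceAs (IsProper (pullback.snd _ (𝟙 _)))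
  obtain ⟨N, Z, i, hi', hiZ, ⟨rZ⟩⟩ := LocalRep.exists_closed_rep K 𝒬 bs (good_isBorel.toClass_isLocal hG) hr hi
    (𝟙 (Spec (CommRingCat.of R'))) (repBC (𝟙 _) (repBC w (repBC v rM)))
  let ε : Red.bc w (Red.bc v M) ≅ Z := (repBC w (repBC v rM)).uniqueUpToIso rZ
  have hεi : IsIso ε.inv.left := inferInstanceAs (IsIso ((Over.forget _).map ε.inv))
  have hZ : Z.hom = ε.inv.left ≫ (Red.bc w (Red.bc v M)).hom := (Over.w ε.inv).symm
  have hZs : Smooth Z.hom := by rw [hZ]; infer_instance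
  have hZsur : Surjective Z.hom := by rw [hZ]; infer_instance
  have hR' : {m : Ideal R' | m.IsMaximal}.Finite := K861.Poly.finite_maximal hR R'
  obtain ⟨S', f', σ', hf1, hf2, hf3, hf4⟩ := S8511.result hR' Z.hom N i hiZ
  refine ⟨S', f' ≫ w, σ' ≫ ε.inv.left ≫ pullback.fst (Red.bc v M).hom w ≫ pullback.fst M.hom v, inferInstance,
    inferInstance, ?_, ?_⟩
  · have e1 : pullback.fst M.hom v ≫ M.hom = (Red.bc v M).hom ≫ v := pullback.condition
    have e2 : pullback.fst (Red.bc v M).hom w ≫ (Red.bc v M).hom = (Red.bc w (Red.bc v M)).hom ≫ w :=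
      pullback.condition
    have e3 : (Red.bc v M).hom ≫ v = (Red.bc v M).hom := Category.comp_id _
    simp only [Category.assoc]
    rw [e1, e3, e2, ← Category.assoc ε.inv.left, ← hZ, ← Category.assoc, hf4]
  · have h3 : p ∈ Set.range w := by
      have h4 : Set.range (PrimeSpectrum.comap (algebraMap R R')) = PrimeSpectrum.basicOpen e :=
        PrimeSpectrum.localization_away_comap_range R' e
      have h5 : p ∈ Set.range (PrimeSpectrum.comap (algebraMap R R')) := by
        rw [h4]; exact hep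
      exact h5
    obtain ⟨p', hp'⟩ := h3
    obtain ⟨y, hy⟩ := f'.surjective p'
    exact ⟨y, by rw [Scheme.Hom.comp_apply, hy, hp']⟩

/-- Finite etale multisections of the scheme of Borel subgroups over finitely many points. -/
theorem exists_section_finset (hR : {m : Ideal R | m.IsMaximal}.Finite) {G : Over (Spec (CommRingCat.of R))} [GrpObj G]
    (hG : Red.IsReductive G) {M : Over (Spec (CommRingCat.of R))}
    (rM : (good_isBorel.toClass hG).subsF.RepresentableBy M) [hMp : IsProper M.hom] [hMs : Smooth M.hom]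
    [hMsur : Surjective M.hom] (T : Finset (PrimeSpectrum R)) :
    ∃ (S' : Scheme.{u}) (f : S' ⟶ Spec (CommRingCat.of R)) (σ : S' ⟶ M.left), IsFinite f ∧ Etale f ∧
      σ ≫ M.hom = f ∧ ∀ p ∈ T, p ∈ Set.range f := by
  classical
  induction T using Finset.induction_on with
  | empty =>
    refine ⟨⊥_ Scheme, initial.to _, initial.to _, inferInstance, inferInstance, initial.hom_ext _ _, ?_⟩
    simp
  | insert p T _ ih =>
    obtain ⟨S₁, f₁, σ₁, h1, h2, h3, h4⟩ := ih
    obtain ⟨S₂, f₂, σ₂, h5, h6, h7, h8⟩ := exists_section_at hR hG rM p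
    have hF := Flat2B.RepPred.etale_coprod_desc f₁ f₂
    refine ⟨S₁ ⨿ S₂, coprod.desc f₁ f₂, coprod.desc σ₁ σ₂, inferInstance, hF, ?_, ?_⟩
    · rw [coprod.desc_comp, h3, h7]
    · intro p' hp'
      rcases Finset.mem_insert.1 hp' with rfl | hp'
      · obtain ⟨y, hy⟩ := h8
        exact ⟨(coprod.inr : S₂ ⟶ S₁ ⨿ S₂) y, by rw [← Scheme.Hom.comp_apply, coprod.inr_desc, hy]⟩
      · obtain ⟨y, hy⟩ := h4 p' hp'
        exact ⟨(coprod.inl : S₁ ⟶ S₁ ⨿ S₂) y, by rw [← Scheme.Hom.comp_apply, coprod.inl_desc, hy]⟩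

/-- **Borel subgroups exist after a finite etale surjective extension of a semi-local base.** -/
theorem exists_borel (hR : {m : Ideal R | m.IsMaximal}.Finite) (G : Over (Spec (CommRingCat.of R))) [GrpObj G]
    (hG : Red.IsReductive G) :
    ∃ (S' : Scheme.{u}) (f : S' ⟶ Spec (CommRingCat.of R)), IsFinite f ∧ Etale f ∧ Surjective f ∧
      ∃ (B : Over S') (_ : GrpObj B) (b : B ⟶ Red.bc f G), Red.IsBorel b := by
  obtain ⟨M, ⟨rM⟩, hMp, hMs, hMsur⟩ := exists_scheme hG
  have hfin : {p : PrimeSpectrum R | p.asIdeal.IsMaximal}.Finite :=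
    Set.Finite.preimage (f := PrimeSpectrum.asIdeal) (fun _ _ _ _ h => PrimeSpectrum.ext h) hR
  obtain ⟨S', f, σ, h1, h2, h3, h4⟩ := exists_section_finset hR hG rM hfin.toFinset
  have hsur : Surjective f := by
    refine ⟨fun p => ?_⟩
    change PrimeSpectrum R at p
    obtain ⟨m, hm, hpm⟩ := Ideal.exists_le_maximal p.asIdeal p.isPrime.ne_top
    let m' : PrimeSpectrum R := ⟨m, hm.isPrime⟩
    have h5 : m' ∈ Set.range f := h4 m' (by simpa using hm)
    have h6 : p ⤳ m' := (PrimeSpectrum.le_iff_specializes _ _).1 hpm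
    have h7 : IsOpen (Set.range f) := f.isOpenMap.isOpen_range
    exact h7.stableUnderGeneralization h6 h5
  refine ⟨S', f, h1, h2, hsur, ?_⟩
  obtain ⟨B, _, b, hb, -⟩ := (good_isBorel.toClass hG).exists_ofSub (T := Over.mk f)
    (rM.homEquiv (Over.homMk σ h3 : Over.mk f ⟶ M))
  exact ⟨B, inferInstance, b, hb⟩

end K861.BorSemi
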