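import Groth.Agent.RedSub.K861.Trans
import Groth.Agent.RedSub.K861.Poly
import Mathlib.FieldTheory.IsAlgClosed.AlgebraicClosure
import Mathlib.FieldTheory.Finite.Basic

/-!
# Transversal linear forms after a finite etale extension of a semi-local ring
-/

set_option autoImplicit false
universe u
open TensorProduct Algebra KaehlerDifferential K658.AffBertini Polynomial

namespace K861.Cover

/-- Elements of an algebraic closure of a finite field are fixed by a power of Frobenius. -/
theorem exists_pow_eq (κ : Type u) [Field κ] [Finite κ] (n : ℕ) (c : Fin n → AlgebraicClosure κ) :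
    ∃ N : ℕ, 0 < N ∧ ∀ M : ℕ, N ∣ M → ∀ i, c i ^ (Nat.card κ) ^ M = c i := by
  let L : IntermediateField κ (AlgebraicClosure κ) := IntermediateField.adjoin κ (Set.range c)
  have hfd : FiniteDimensional κ L := IntermediateField.finiteDimensional_adjoin fun x hx =>
    Algebra.IsIntegral.isIntegral x
  have : Finite L := Module.finite_of_finite κ
  refine ⟨Module.finrank κ L, Module.finrank_pos, ?_⟩
  rintro M ⟨e, rfl⟩ i
  have h1 : ∀ x : L, x ^ (Nat.card κ) ^ (Module.finrank κ L * e) = x := by
    intro x
    have h2 : Nat.card L = Nat.card κ ^ Module.finrank κ L := Module.natCard_eq_pow_finrank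
    rw [pow_mul, ← h2]
    have := Fintype.ofFinite L
    rw [Nat.card_eq_fintype_card]
    exact FiniteField.pow_card_pow e x
  have h3 := congrArg (algebraMap L (AlgebraicClosure κ)) (h1 ⟨c i, IntermediateField.subset_adjoin _ _ ⟨i, rfl⟩⟩)
  rwa [map_pow] at h3

/-- The image of a finite field in an extension consists of the fixed elements of a power of Frobenius. -/
theorem mem_range_of_pow_eq {E K : Type u} [Field E] [Finite E] [Field K] (f : E →+* K) (x : K)
    (hx : x ^ Nat.card E = x) : x ∈ Set.range f := by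
  classical
  have := Fintype.ofFinite E
  have h1 : 1 < Nat.card E := Finite.one_lt_card
  have hne : (X ^ Nat.card E - X : K[X]) ≠ 0 := FiniteField.X_pow_card_sub_X_ne_zero K h1
  have hsub : Finset.univ.image f ⊆ (X ^ Nat.card E - X : K[X]).roots.toFinset := by
    intro z hz
    obtain ⟨e, -, rfl⟩ := Finset.mem_image.1 hz
    rw [Multiset.mem_toFinset, mem_roots hne, IsRoot.def, eval_sub, eval_pow, eval_X, ← map_pow,
      Nat.card_eq_fintype_card, FiniteField.pow_card, sub_self]
  have hcard : (X ^ Nat.card E - X : K[X]).roots.toFinset.card ≤ (Finset.univ.image f).card := by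
    rw [Finset.card_image_of_injective _ f.injective, Finset.card_univ, ← Nat.card_eq_fintype_card]
    refine (Multiset.toFinset_card_le _).trans ((card_roots' _).trans ?_)
    rw [FiniteField.X_pow_card_sub_X_natDegree_eq K h1]
  have heq := Finset.eq_of_subset_of_card_le hsub hcard
  have hx' : x ∈ (X ^ Nat.card E - X : K[X]).roots.toFinset := by
    rw [Multiset.mem_toFinset, mem_roots hne, IsRoot.def, eval_sub, eval_pow, eval_X, hx, sub_self]
  rw [← heq] at hx'
  obtain ⟨e, -, he⟩ := Finset.mem_image.1 hx'
  exact ⟨e, he⟩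

variable {A : Type u} [CommRing A] (n : ℕ) (B : Fin (n + 1) → Type u) [∀ j, CommRing (B j)]
    [∀ j, Algebra A (B j)] (y : ∀ j, Fin (n + 1) → B j)

variable (A) in
/-- The coefficients `c` define transversal linear forms over the field `K`. -/
def Good (K : Type u) [Field K] [Algebra A K] (c : Fin (n + 1) → K) : Prop :=
  ∀ j, Transv K (∑ i, c i ⊗ₜ[A] y j i : K ⊗[A] B j)

/-- From a field point to primes. -/
theorem ne_zero_of_good {A' : Type u} [CommRing A'] [Algebra A A'] {K : Type u} [Field K] [Algebra A K] [Algebra A' K]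
    [IsScalarTower A A' K] (a : Fin (n + 1) → A') (h : Good A n B y K fun i => algebraMap A' K (a i)) (j : Fin (n + 1))
    (q : Ideal (A' ⊗[A] B j)) [q.IsPrime] (hq : q.comap (algebraMap A' (A' ⊗[A] B j)) = RingHom.ker (algebraMap A' K))
    (hmem : (∑ i, a i ⊗ₜ[A] y j i) ∈ q) :
    (1 : q.ResidueField) ⊗ₜ[A' ⊗[A] B j] D A' (A' ⊗[A] B j) (∑ i, a i ⊗ₜ[A] y j i) ≠ 0 := by
  refine Trans.ne_zero_of_transv (K := K) _ ?_ q hmem hq
  let e : K ⊗[A'] (A' ⊗[A] B j) ≃ₐ[K] K ⊗[A] B j := Algebra.TensorProduct.cancelBaseChange A A' K K (B j)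
  have h1 := Trans.transv_of_algEquiv e.symm _ (h j)
  have h2 : e ((1 : K) ⊗ₜ[A'] (∑ i, a i ⊗ₜ[A] y j i)) = ∑ i, algebraMap A' K (a i) ⊗ₜ[A] y j i := by
    rw [TensorProduct.tmul_sum, map_sum]
    refine Finset.sum_congr rfl fun i _ => ?_
    change Algebra.TensorProduct.cancelBaseChange A A' K K (B j) _ = _
    rw [Algebra.TensorProduct.cancelBaseChange_tmul, Algebra.smul_def, mul_one]
  rw [← h2, e.symm_apply_apply] at h1
  exact h1

variable [∀ j, Algebra.Smooth A (B j)]

/-- Transversal linear forms exist after a finite etale surjective extension. -/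
theorem exists_cover (hA : {m : Ideal A | m.IsMaximal}.Finite) (hy : ∀ j, y j j = 1)
    (hs : ∀ j, Function.Surjective (MvPolynomial.aeval (y j) : MvPolynomial (Fin (n + 1)) A →ₐ[A] B j)) :
    ∃ (A' : Type u) (_ : CommRing A') (_ : Algebra A A'), Module.Finite A A' ∧ Algebra.Etale A A' ∧
      Function.Surjective (PrimeSpectrum.comap (algebraMap A A')) ∧ {m : Ideal A' | m.IsMaximal}.Finite ∧
      ∃ a : Fin (n + 1) → A', ∀ (j : Fin (n + 1)) (q : Ideal (A' ⊗[A] B j)) [q.IsPrime],
        (q.comap (algebraMap A' (A' ⊗[A] B j))).IsMaximal → (∑ i, a i ⊗ₜ[A] y j i) ∈ q →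
          (1 : q.ResidueField) ⊗ₜ[A' ⊗[A] B j] D A' (A' ⊗[A] B j) (∑ i, a i ⊗ₜ[A] y j i) ≠ 0 := by
  classical
  have hfin : Finite (MaximalSpectrum A) := by
    have := hA.to_subtype
    exact Finite.of_injective (fun m : MaximalSpectrum A => (⟨m.asIdeal, m.isMaximal⟩ : {m : Ideal A | m.IsMaximal}))
      fun m m' h => MaximalSpectrum.ext (congrArg Subtype.val h)
  have := Fintype.ofFinite (MaximalSpectrum A)
  let _ : ∀ m : MaximalSpectrum A, Field (A ⧸ m.asIdeal) := fun m => Ideal.Quotient.field m.asIdeal
  -- good forms over the algebraic closures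
  have key1 : ∀ m : MaximalSpectrum A, ∃ c : Fin (n + 1) → AlgebraicClosure (A ⧸ m.asIdeal),
      Good A n B y (AlgebraicClosure (A ⧸ m.asIdeal)) c := fun m =>
    Trans.exists_good_tensor (K := AlgebraicClosure (A ⧸ m.asIdeal)) n B y hy hs
  choose c hc using key1
  have key2 : ∀ m : MaximalSpectrum A, ∃ N : ℕ, 0 < N ∧ (Finite (A ⧸ m.asIdeal) → ∀ M : ℕ, N ∣ M → ∀ i,
      c m i ^ (Nat.card (A ⧸ m.asIdeal)) ^ M = c m i) := by
    intro m
    rcases finite_or_infinite (A ⧸ m.asIdeal) with h | h
    · obtain ⟨N, hN, hNM⟩ := exists_pow_eq (A ⧸ m.asIdeal) (n + 1) (c m)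
      exact ⟨N, hN, fun _ => hNM⟩
    · exact ⟨1, one_pos, fun h' => (not_finite (A ⧸ m.asIdeal)).elim⟩
  choose N hN hNM using key2
  let M : ℕ := ∏ m, N m
  have hM : 0 < M := Finset.prod_pos fun m _ => hN m
  have key3 := fun m : MaximalSpectrum A => Poly.exists_poly (A ⧸ m.asIdeal) M hM
  choose f hf1 hf2 hf3 hf4 using key3
  obtain ⟨g, hg, hgN, hgf⟩ := Poly.exists_lift M f hf1 hf2
  have hsep : g.Separable := Poly.separable_of_map g hg fun m => by rw [hgf]; exact hf3 m
  let A' := AdjoinRoot g
  have hfinA : Module.Finite A A' := hg.finite_adjoinRoot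
  have hA' := Poly.finite_maximal hA A'
  have hfin' : Finite (MaximalSpectrum A') := by
    have := hA'.to_subtype
    exact Finite.of_injective (fun m : MaximalSpectrum A' => (⟨m.asIdeal, m.isMaximal⟩ : {m : Ideal A' | m.IsMaximal}))
      fun m m' h => MaximalSpectrum.ext (congrArg Subtype.val h)
  have hsurj : Function.Surjective (PrimeSpectrum.comap (algebraMap A A')) := by
    rcases subsingleton_or_nontrivial A with h0 | h0
    · intro x
      exact (x.isPrime.ne_top (Subsingleton.elim _ _)).elim
    · have hfree : Module.Free A A' := Module.Free.of_basis (AdjoinRoot.powerBasis' hg).basis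
      have hnt : Nontrivial A' := ⟨(AdjoinRoot.powerBasis' hg).basis
        ⟨0, by rw [AdjoinRoot.powerBasis'_dim, hgN h0]; exact hM⟩, 0, Module.Basis.ne_zero _ _⟩
      exact PrimeSpectrum.comap_surjective_of_faithfullyFlat
  -- the field points of the maximal ideals of A'
  have key4 : ∀ m' : MaximalSpectrum A', ∃ (K : Type u) (_ : Field K) (_ : Algebra A K) (_ : Algebra A' K)
      (_ : IsScalarTower A A' K) (a : Fin (n + 1) → A'), RingHom.ker (algebraMap A' K) = m'.asIdeal ∧
      Good A n B y K fun i => algebraMap A' K (a i) := by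
    intro m'
    let mI : Ideal A := m'.asIdeal.under A
    have hmI : mI.IsMaximal := Ideal.isMaximal_comap_of_isIntegral_of_isMaximal m'.asIdeal
    let m : MaximalSpectrum A := ⟨mI, hmI⟩
    let E := A' ⧸ m'.asIdeal
    let _ : Field E := Ideal.Quotient.field m'.asIdeal
    let ψ : (A ⧸ m.asIdeal) →+* E := Ideal.quotientMap m'.asIdeal (algebraMap A A') le_rfl
    rcases finite_or_infinite (A ⧸ m.asIdeal) with hκ | hκ
    · let _ : Algebra (A ⧸ m.asIdeal) E := ψ.toAlgebra
      have hst : IsScalarTower A (A ⧸ m.asIdeal) E := IsScalarTower.of_algebraMap_eq fun x => rfl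
      have hfdE : Module.Finite (A ⧸ m.asIdeal) E := by
        have : Module.Finite A E := Module.Finite.trans A' E
        exact Module.Finite.of_restrictScalars_finite A _ _
      have hrank : Module.finrank (A ⧸ m.asIdeal) E = M := by
        have hirr : Irreducible (f m) := hf4 m hκ
        have : Fact (Irreducible (f m)) := ⟨hirr⟩
        let α : E := Ideal.Quotient.mk m'.asIdeal (AdjoinRoot.root g)
        have hα : Polynomial.aeval α (f m) = 0 := by
          rw [← hgf m, Polynomial.aeval_def, Polynomial.eval₂_map]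
          change Polynomial.eval₂ (ψ.comp (Ideal.Quotient.mk m.asIdeal)) α g = 0
          have h1 : ψ.comp (Ideal.Quotient.mk m.asIdeal) = (Ideal.Quotient.mk m'.asIdeal).comp (AdjoinRoot.of g) := by
            ext x; rfl
          rw [h1, ← Polynomial.hom_eval₂, AdjoinRoot.eval₂_root, map_zero]
        have hmin : minpoly (A ⧸ m.asIdeal) α = f m :=
          (minpoly.eq_of_irreducible_of_monic hirr hα (hf1 m)).symm
        have htop : IntermediateField.adjoin (A ⧸ m.asIdeal) {α} = ⊤ := by
          rw [_root_.eq_top_iff]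
          rintro x -
          obtain ⟨x, rfl⟩ := Ideal.Quotient.mk_surjective x
          induction x using AdjoinRoot.induction_on with
          | ih P =>
            have h1 : Ideal.Quotient.mk m'.asIdeal (AdjoinRoot.mk g P) =
                Polynomial.aeval α (P.map (Ideal.Quotient.mk m.asIdeal)) := by
              rw [Polynomial.aeval_def, Polynomial.eval₂_map]
              change _ = Polynomial.eval₂ (ψ.comp (Ideal.Quotient.mk m.asIdeal)) α P
              have h2 : ψ.comp (Ideal.Quotient.mk m.asIdeal) =
                  (Ideal.Quotient.mk m'.asIdeal).comp (AdjoinRoot.of g) := by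
                ext x; rfl
              rw [h2, ← Polynomial.hom_eval₂]
              congr 1
              rw [← AdjoinRoot.aeval_eq]
              rfl
            rw [h1]
            exact (IntermediateField.algebra_adjoin_le_adjoin _ _) (Polynomial.aeval_mem_adjoin_singleton _ _)
        have hint : IsIntegral (A ⧸ m.asIdeal) α := Algebra.IsIntegral.isIntegral α
        have h3 := IntermediateField.adjoin.finrank hint
        rw [htop, IntermediateField.finrank_top', hmin, hf2] at h3
        exact h3
      let K := AlgebraicClosure (A ⧸ m.asIdeal)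
      let ρ : E →ₐ[A ⧸ m.asIdeal] K := IsAlgClosed.lift
      let _ : Algebra A' K := (ρ.toRingHom.comp (Ideal.Quotient.mk m'.asIdeal)).toAlgebra
      have hst' : IsScalarTower A A' K := IsScalarTower.of_algebraMap_eq fun x => by
        change algebraMap A K x = ρ (Ideal.Quotient.mk m'.asIdeal (algebraMap A A' x))
        rw [IsScalarTower.algebraMap_apply A (A ⧸ m.asIdeal) K]
        exact (ρ.commutes _).symm
      have hE : Finite E := Module.finite_of_finite (A ⧸ m.asIdeal)
      have hmem : ∀ i, ∃ a : A', algebraMap A' K a = c m i := by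
        intro i
        obtain ⟨e, he⟩ := mem_range_of_pow_eq ρ.toRingHom (c m i) (by
          rw [Module.natCard_eq_pow_finrank (K := A ⧸ m.asIdeal) (V := E), hrank]
          exact hNM m hκ M (Finset.dvd_prod_of_mem N (Finset.mem_univ m)) i)
        obtain ⟨a, rfl⟩ := Ideal.Quotient.mk_surjective e
        exact ⟨a, he⟩
      choose a ha using hmem
      refine ⟨K, inferInstance, inferInstance, inferInstance, hst', a, ?_, ?_⟩
      · change RingHom.ker (ρ.toRingHom.comp (Ideal.Quotient.mk m'.asIdeal)) = _
        rw [RingHom.ker_comp_of_injective _ ρ.toRingHom.injective, Ideal.mk_ker]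
      · have h1 : (fun i => algebraMap A' K (a i)) = c m := funext ha
        rw [h1]
        exact hc m
    · have hE : Infinite E := Infinite.of_injective ψ ψ.injective
      obtain ⟨c', hc'⟩ := Trans.exists_good_tensor (A := A) (K := E) n B y hy hs
      have hmem : ∀ i, ∃ a : A', algebraMap A' E a = c' i := fun i => Ideal.Quotient.mk_surjective _
      choose a ha using hmem
      refine ⟨E, inferInstance, inferInstance, inferInstance, inferInstance, a, Ideal.mk_ker, ?_⟩
      have h1 : (fun i => algebraMap A' E (a i)) = c' := funext ha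
      rw [h1]
      exact hc'
  choose K hK1 hK2 hK3 hK4 a₀ hker hgood using key4
  -- the Chinese remainder theorem
  have key5 : ∀ i : Fin (n + 1), ∃ a : A', ∀ m' : MaximalSpectrum A',
      Ideal.Quotient.mk m'.asIdeal a = Ideal.Quotient.mk m'.asIdeal (a₀ m' i) := fun i =>
    Ideal.pi_quotient_surjective (fun m m' h => Ideal.isCoprime_of_isMaximal fun h' => h (MaximalSpectrum.ext h')) _
  choose a ha using key5
  refine ⟨A', inferInstance, inferInstance, hfinA, Groth.Agent.CalgB.PopEnlarge.etale_adjoinRoot g hg hsep, hsurj, hA', a,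
    fun j q _ hq hmem => ?_⟩
  let m' : MaximalSpectrum A' := ⟨_, hq⟩
  refine ne_zero_of_good n B y (K := K m') a ?_ j q (hker m').symm hmem
  have h1 : (fun i => algebraMap A' (K m') (a i)) = fun i => algebraMap A' (K m') (a₀ m' i) := by
    funext i
    have h2 := ha i m'
    rw [Ideal.Quotient.eq, ← hker m', RingHom.mem_ker, map_sub, sub_eq_zero] at h2
    exact h2
  rw [h1]
  exact hgood m'

end K861.Cover
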