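import Groth.Agent.RedSub.K861.Sect
import Groth.Agent.RedSub.K861.Cover

/-!
# Transversal hyperplanes after a finite etale cover of a semi-local base
-/

set_option autoImplicit false
universe u
open CategoryTheory CategoryTheory.Limits AlgebraicGeometry TopologicalSpace Opposite
open Groth.Agent Groth.Agent.VarietyB Groth.Agent.VarietyB.ProjHom Groth.Agent.VarietyB.ProjGlue
open Groth.Agent.Lefpen.H872.RelCI Groth.Agent.Lefpen.H872.RelBase Groth.Agent.CohqB.ProjBC
open K861.ProjSec K861.BC K861.Rel TensorProduct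

namespace K861.CoverGeo

/-- The linear form as a form. -/
noncomputable def linF {A : Type u} [CommRing A] {n : ℕ} (a : Fin (n + 1) → A) : RForm n A 1 := lin a

/-- Transport of the nonvanishing of the differential. -/
theorem ne_zero_of_equiv {R B B' : Type u} [CommRing R] [CommRing B] [CommRing B'] [Algebra R B] [Algebra R B']
    (e : B ≃ₐ[R] B') (t : B) (t' : B') (he : e t = t') (q : Ideal B') [q.IsPrime]
    (h : ∀ (p : Ideal B) [p.IsPrime], p.comap (algebraMap R B) = q.comap (algebraMap R B') → t ∈ p →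
      (1 : p.ResidueField) ⊗ₜ[B] KaehlerDifferential.D R B t ≠ 0) (ht : t' ∈ q) :
    (1 : q.ResidueField) ⊗ₜ[B'] KaehlerDifferential.D R B' t' ≠ 0 := by
  subst he
  intro h0
  let p : Ideal B := q.comap e.toAlgHom
  have hpp : p.IsPrime := Ideal.comap_isPrime _ _
  refine h p ?_ ht ?_
  · ext x
    change e (algebraMap R B x) ∈ q ↔ algebraMap R B' x ∈ q
    rw [e.commutes]
  let _ : Algebra B' B := (e.symm.toAlgHom.toRingHom).toAlgebra
  have : IsScalarTower R B' B := IsScalarTower.of_algebraMap_eq fun x => (e.symm.commutes x).symm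
  have h1 := Trans.vanish_map (R := R) (B := B') (R' := R) (B' := B) p q ?_ (e t) h0
  · have h2 : algebraMap B' B (e t) = t := e.symm_apply_apply t
    rwa [h2] at h1
  · ext x
    change x ∈ q ↔ e (e.symm x) ∈ q
    rw [e.apply_symm_apply]

/-- The transversality condition on all charts. -/
def TransvAll {A : Type u} [CommRing A] {n : ℕ} {X : Scheme.{u}} (ι : X ⟶ CohB1.ProjSpace n A)
    (h : RForm n A 1) : Prop :=
  ∀ (j : Fin (n + 1)) (q : Ideal Γ(X, W ι j)) [q.IsPrime],
      (q.comap (@algebraMap A Γ(X, W ι j) _ _ (alg ι j))).IsMaximal → θ ι j h ∈ q →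
      letI := alg ι j
      (1 : q.ResidueField) ⊗ₜ[Γ(X, W ι j)] KaehlerDifferential.D A Γ(X, W ι j) (θ ι j h) ≠ 0

/-- Transport of the transversality to the base change. -/
theorem transvAll_of {A A' : Type u} [CommRing A] [CommRing A'] [Algebra A A'] {n : ℕ} {X X' : Scheme.{u}}
    {ι : X ⟶ CohB1.ProjSpace n A} [IsClosedImmersion ι] {ι' : X' ⟶ CohB1.ProjSpace n A'} {pr : X' ⟶ X}
    (H : IsPullback pr ι' ι (pmap (algebraMap A A') n)) (a : Fin (n + 1) → A')
    (ha : ∀ j, letI := alg ι j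
      ∀ (q : Ideal (A' ⊗[A] Γ(X, W ι j))) [q.IsPrime], (q.comap (algebraMap A' (A' ⊗[A] Γ(X, W ι j)))).IsMaximal →
        (∑ i, a i ⊗ₜ[A] θ ι j (MvPolynomial.X i)) ∈ q →
        (1 : q.ResidueField) ⊗ₜ[A' ⊗[A] Γ(X, W ι j)]
          KaehlerDifferential.D A' (A' ⊗[A] Γ(X, W ι j)) (∑ i, a i ⊗ₜ[A] θ ι j (MvPolynomial.X i)) ≠ 0) :
    TransvAll ι' (linF a) := by
  intro j q _ hmax hmem
  let _ := alg ι j
  let _ := alg ι' j
  obtain ⟨e, he⟩ := exists_equiv H rfl j
  have h1 : e (∑ i, a i ⊗ₜ[A] θ ι j (MvPolynomial.X i)) = θ ι' j (linF a) := by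
    rw [map_sum]
    refine Eq.trans ?_ (θ_sum ι' j (lin a)).symm
    refine Finset.sum_congr rfl fun i _ => ?_
    have h2 : a i ⊗ₜ[A] θ ι j (MvPolynomial.X i) = a i • ((1 : A') ⊗ₜ[A] θ ι j (MvPolynomial.X i)) := by
      rw [TensorProduct.smul_tmul', smul_eq_mul, mul_one]
    rw [h2, map_smul, he, Algebra.smul_def, coeff_lin]
    congr 1
    have h3 := appLE_θ H j (⟨MvPolynomial.X i, X_mem n A i⟩ : RForm n A 1)
    rw [h3, mapForm_val, MvPolynomial.map_X]
  refine ne_zero_of_equiv e _ _ h1 q (fun p _ hp htp => ha j p ?_ htp) hmem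
  rw [hp]
  exact hmax

/-- Transversal hyperplanes exist after a finite etale surjective extension. -/
theorem exists_cover {A : Type u} [CommRing A] (hA : {m : Ideal A | m.IsMaximal}.Finite) {n : ℕ}
    {X : Scheme.{u}} (ι : X ⟶ CohB1.ProjSpace n A) [IsClosedImmersion ι]
    [hsm : Smooth (ι ≫ CohB1.ProjSpace.toSpec n A)] :
    ∃ (A' : Type u) (_ : CommRing A') (_ : Algebra A A'), Module.Finite A A' ∧ Algebra.Etale A A' ∧
      Function.Surjective (PrimeSpectrum.comap (algebraMap A A')) ∧ {m : Ideal A' | m.IsMaximal}.Finite ∧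
      ∃ a : Fin (n + 1) → A', ∀ (X' : Scheme.{u}) (ι' : X' ⟶ CohB1.ProjSpace n A') (pr : X' ⟶ X),
        IsPullback pr ι' ι (pmap (algebraMap A A') n) → TransvAll ι' (linF a) := by
  have hsm' : ∀ j, letI := alg ι j; Algebra.Smooth A Γ(X, W ι j) := by
    intro j
    let _ := alg ι j
    have h1 := K658.SecSmooth.smooth_baseHom (ι ≫ CohB1.ProjSpace.toSpec n A) (isAffineOpen_W' ι j)
    rw [← algebraMap_alg' ι j] at h1
    exact RingHom.smooth_algebraMap.1 h1
  obtain ⟨A', i1, i2, h1, h2, h3, h4, a, ha⟩ := @K861.Cover.exists_cover A _ n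
    (fun j => (Γ(X, W ι j) : CommRingCat.{u})) (fun j => inferInstance) (fun j => alg ι j) (fun j i => θ ι j (MvPolynomial.X i)) hsm' hA
    (fun j => θ_self ι j) (fun j z => by
      obtain ⟨P, hP⟩ := (@θ_surjective _ _ _ _ ι j ‹IsClosedImmersion ι›) z
      exact ⟨P, (aeval_eq ι j P).trans hP⟩)
  exact ⟨A', i1, i2, h1, h2, h3, h4, a, fun X' ι' pr H => transvAll_of H a fun j => ha j⟩

end K861.CoverGeo
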