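import Groth.Agent.Lefpen.H727.JacCrit
import Mathlib.RingTheory.Etale.Kaehler

/-!
# The Jacobian criterion for one equation at one point, with relative dimensions
-/

set_option autoImplicit false
universe u
open TensorProduct KaehlerDifferential
open Groth.Agent Groth.Agent.Lefpen.H727.JacCrit

namespace K861.Jac

/-- The rank of the differentials at a point can be computed after a formally etale extension. -/
theorem finrank_etale {R B B' : Type u} [CommRing R] [CommRing B] [CommRing B'] [Algebra R B] [Algebra R B']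
    [Algebra B B'] [IsScalarTower R B B'] [Algebra.FormallyEtale B B'] (K : Type u) [Field K] [Algebra B K]
    [Algebra B' K] [IsScalarTower B B' K] :
    Module.finrank K (K ⊗[B'] Ω[B'⁄R]) = Module.finrank K (K ⊗[B] Ω[B⁄R]) := by
  let e1 : K ⊗[B'] (B' ⊗[B] Ω[B⁄R]) ≃ₗ[K] K ⊗[B'] Ω[B'⁄R] :=
    TensorProduct.AlgebraTensorModule.congr (LinearEquiv.refl K K)
      (KaehlerDifferential.tensorKaehlerEquivOfFormallyEtale R B B')
  let e2 : K ⊗[B'] (B' ⊗[B] Ω[B⁄R]) ≃ₗ[K] K ⊗[B] Ω[B⁄R] :=
    TensorProduct.AlgebraTensorModule.cancelBaseChange B B' K K Ω[B⁄R]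
  exact (e1.symm.trans e2).finrank_eq

/-- Nonvanishing of differentials is preserved by field extensions. -/
theorem ne_zero_ext {R B : Type u} [CommRing R] [CommRing B] [Algebra R B] (K L : Type u) [Field K] [Field L]
    [Algebra B K] [Algebra B L] [Algebra K L] [IsScalarTower B K L] (t : B)
    (h : (1 : K) ⊗ₜ[B] D R B t ≠ 0) : (1 : L) ⊗ₜ[B] D R B t ≠ 0 := by
  intro h0
  apply h
  obtain ⟨r, hr⟩ := LinearMap.exists_leftInverse_of_injective (Algebra.linearMap K L)
    (LinearMap.ker_eq_bot.2 (algebraMap K L).injective)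
  have h1 := congrArg (TensorProduct.map (r.restrictScalars B) (LinearMap.id (R := B) (M := Ω[B⁄R]))) h0
  rw [map_zero, TensorProduct.map_tmul] at h1
  have h2 : r (1 : L) = 1 := by
    have := LinearMap.congr_fun hr (1 : K)
    simpa using this
  simpa [h2] using h1

/-- The pointwise Jacobian criterion for one equation. -/
theorem exists_away {R B C : Type u} [CommRing R] [CommRing B] [CommRing C] [Algebra R B] [Algebra B C]
    [Algebra R C] [IsScalarTower R B C] [Algebra.Smooth R B] (hsurj : Function.Surjective (algebraMap B C)) (t : B)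
    (hJ : RingHom.ker (algebraMap B C) = Ideal.span {t}) (q : Ideal C) [q.IsPrime] (m : ℕ)
    (hm : Module.finrank q.ResidueField (q.ResidueField ⊗[B] Ω[B⁄R]) = m)
    (ht : (1 : q.ResidueField) ⊗ₜ[B] D R B t ≠ 0) :
    1 ≤ m ∧ ∃ f : C, f ∉ q ∧ Algebra.IsStandardSmoothOfRelativeDimension (m - 1) R (Localization.Away f) := by
  let h : Unit → B := fun _ => t
  have hJ' : RingHom.ker (algebraMap B C) = Ideal.span (Set.range h) := by
    rw [Set.range_const, hJ]
  have hfp : Algebra.FinitePresentation R C := by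
    refine Algebra.FinitePresentation.of_surjective (f := IsScalarTower.toAlgHom R B C) hsurj ?_
    change (RingHom.ker (algebraMap B C)).FG
    rw [hJ]
    exact ⟨{t}, by simp⟩
  have hfin : Module.Finite q.ResidueField (q.ResidueField ⊗[B] Ω[B⁄R]) := inferInstance
  have hadd := finrank_add_finrank_span (R := R) hsurj h hJ' q.ResidueField
  rw [hm] at hadd
  have hli : LinearIndependent q.ResidueField (fun i => (1 : q.ResidueField) ⊗ₜ[B] D R B (h i)) :=
    LinearIndependent.of_subsingleton () ht
  have h2 := (linearIndependent_iff_card_eq_finrank_span.1 hli)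
  rw [Set.finrank, Fintype.card_unit] at h2
  have hcn : 1 ≤ m := by omega
  refine ⟨hcn, ?_⟩
  have := cotangent_finite (B := B) (C := C) h hJ'
  have h3 := (S2463.result (A := R) hsurj q).out 1 0
  have h4 : Algebra.IsSmoothAt R q :=
    h3.1 (lTensor_injective_of_linearIndependent (R := R) h hJ' q.ResidueField hli)
  obtain ⟨f, hf, hfs⟩ := Algebra.IsSmoothAt.exists_notMem_isStandardSmooth R q
  refine ⟨f, hf, ?_⟩
  obtain ⟨ι', σ', _, _, ⟨P⟩⟩ := hfs
  have hP : Algebra.IsStandardSmoothOfRelativeDimension P.dimension R (Localization.Away f) :=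
    ⟨⟨ι', σ', ‹_›, ‹_›, P, rfl⟩⟩
  have h1 : Module.finrank q.ResidueField (q.ResidueField ⊗[C] Ω[C⁄R]) = P.dimension := by
    refine Sga4B.RelDimUnique.finrank_eq q.ResidueField _ f ?_ hP
    rwa [Ne, Ideal.algebraMap_residueField_eq_zero]
  have h5 : P.dimension = m - 1 := by omega
  rwa [h5] at hP

end K861.Jac
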