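import Groth.Agent.Ega2.H298.ProjExt
import Groth.Agent.Divis.IdealComap
import Groth.Agent.Pi1C.ZeroScheme
import Groth.Agent.Ega2.TwistInv
import Mathlib.AlgebraicGeometry.Morphisms.Smooth
import Mathlib.RingTheory.MvPolynomial.Homogeneous

/-!
# Hyperplane sections of closed subschemes of projective space on the standard charts
-/

set_option autoImplicit false
universe u
open CategoryTheory CategoryTheory.Limits AlgebraicGeometry TopologicalSpace Opposite HomogeneousLocalization
open Groth.Agent.VarietyB Groth.Agent.VarietyB.ProjHom Groth.Agent.VarietyB.ProjGlue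
open Groth.Agent.Ega2.H298.ProjRatio Groth.Agent.Ega2.H298.ProjExt

namespace K861.ProjSec

variable (k : Type u) [CommRing k] (n : ℕ)

/-- The coordinate `X_j` as an element of degree one. -/
noncomputable def X1 (j : Fin (n + 1)) : CohB1.polyGrading n k 1 :=
  ⟨MvPolynomial.X j, MvPolynomial.isHomogeneous_X k j⟩

variable {k n}

/-- A linear form is the sum of its coefficients times the coordinates. -/
theorem linear_eq_sum (h : CohB1.polyGrading n k 1) :
    (h : MvPolynomial (Fin (n + 1)) k) =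
      ∑ i, MvPolynomial.C (MvPolynomial.coeff (Finsupp.single i 1) (h : MvPolynomial (Fin (n + 1)) k)) *
        MvPolynomial.X i := by
  classical
  obtain ⟨h, hh⟩ := h
  have hh' : h.IsHomogeneous 1 := hh
  ext m
  rw [MvPolynomial.coeff_sum]
  by_cases hm : m.degree = 1
  · obtain ⟨i, rfl⟩ : ∃ i, m = Finsupp.single i 1 := by
      have h2 : m ∈ Set.range (fun a : Fin (n + 1) ↦ Finsupp.single a 1) := by
        rw [Finsupp.range_single_one]; exact hm
      obtain ⟨i, hi⟩ := h2
      exact ⟨i, hi.symm⟩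
    rw [Finset.sum_eq_single i]
    · rw [MvPolynomial.coeff_C_mul, MvPolynomial.coeff_X, if_pos rfl, mul_one]
    · intro j _ hj
      rw [MvPolynomial.coeff_C_mul, MvPolynomial.coeff_X, if_neg, mul_zero]
      intro h
      exact hj (Finsupp.single_left_injective one_ne_zero h)
    · intro h; exact absurd (Finset.mem_univ i) h
  · have h1 : MvPolynomial.coeff m h = 0 := hh'.coeff_eq_zero hm
    change MvPolynomial.coeff m h = _
    rw [h1]
    symm
    refine Finset.sum_eq_zero fun i _ => ?_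
    rw [MvPolynomial.coeff_C_mul, MvPolynomial.coeff_X, if_neg, mul_zero]
    rintro rfl
    exact hm (by simp)

/-- The linear form with given coefficients. -/
noncomputable def lin (a : Fin (n + 1) → k) : CohB1.polyGrading n k 1 :=
  ⟨∑ i, MvPolynomial.C (a i) * MvPolynomial.X i, by
    refine sum_mem fun i _ => ?_
    have := (MvPolynomial.isHomogeneous_C (Fin (n + 1)) (a i)).mul (MvPolynomial.isHomogeneous_X k i)
    rwa [zero_add] at this⟩

theorem coeff_lin (a : Fin (n + 1) → k) (i : Fin (n + 1)) :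
    MvPolynomial.coeff (Finsupp.single i 1) (lin a : MvPolynomial (Fin (n + 1)) k) = a i := by
  classical
  change MvPolynomial.coeff (Finsupp.single i 1) (∑ i, MvPolynomial.C (a i) * MvPolynomial.X i) = a i
  rw [MvPolynomial.coeff_sum, Finset.sum_eq_single i]
  · rw [MvPolynomial.coeff_C_mul, MvPolynomial.coeff_X, if_pos rfl, mul_one]
  · intro j _ hj
    rw [MvPolynomial.coeff_C_mul, MvPolynomial.coeff_X, if_neg, mul_zero]
    intro h
    exact hj (Finsupp.single_left_injective one_ne_zero h)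
  · intro h; exact absurd (Finset.mem_univ i) h

section chart

variable {X : Scheme.{u}} (ι : X ⟶ Proj (CohB1.polyGrading n k)) (j : Fin (n + 1))

/-- The chart `X ∩ D_+(X_j)`. -/
noncomputable abbrev W : X.Opens := ι ⁻¹ᵁ Proj.basicOpen (CohB1.polyGrading n k) (X1 k n j).1

/-- The ring homomorphism from the polynomial ring, `f ↦ f / X_j ^ deg f`. -/
noncomputable def θ : MvPolynomial (Fin (n + 1)) k →+* Γ(X, W ι j) :=
  (resHom (CohB1.polyGrading n k) ι (X1 k n j) le_rfl).comp (deh (CohB1.polyGrading n k) (X1 k n j))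

theorem θ_lin (h : CohB1.polyGrading n k 1) :
    θ ι j h = ι.app _ (ratio (CohB1.polyGrading n k) (X1 k n j) h) := by
  change resHom (CohB1.polyGrading n k) ι (X1 k n j) le_rfl (deh (CohB1.polyGrading n k) (X1 k n j) h.1) = _
  rw [deh_frac, resHom_frac]
  exact Groth.Agent.Fdesc.LocGen.ores_refl _

theorem θ_self : θ ι j (MvPolynomial.X j) = 1 := by
  have h1 : frac (CohB1.polyGrading n k) (X1 k n j) (X1 k n j) = 1 := by
    apply HomogeneousLocalization.val_injective
    rw [frac, HomogeneousLocalization.Away.val_mk, HomogeneousLocalization.val_one,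
      ← Localization.mk_self (⟨(X1 k n j).1 ^ 1, ⟨1, rfl⟩⟩ : Submonoid.powers (X1 k n j).1)]
    congr 1
    exact (pow_one _).symm
  change resHom (CohB1.polyGrading n k) ι (X1 k n j) le_rfl
    (deh (CohB1.polyGrading n k) (X1 k n j) (X1 k n j).1) = _
  rw [deh_frac, h1, map_one]

theorem θ_C (a : k) : θ ι j (MvPolynomial.C a) =
    CoordData.baseHom (ι ≫ CohB1.ProjSpace.toSpec n k) (W ι j) a := by
  have h2 := deh_algebraMap (CohB1.polyGrading n k) (X1 k n j) a
  rw [MvPolynomial.algebraMap_eq] at h2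
  have h3 := resHom_algebraMap (CohB1.polyGrading n k) ι (X1 k n j) (le_refl (W ι j)) a
  rw [← h2] at h3
  exact h3

theorem θ_surjective [IsClosedImmersion ι] : Function.Surjective (θ ι j) := by
  have hU : IsAffineOpen (Proj.basicOpen (CohB1.polyGrading n k) (X1 k n j).1) :=
    Proj.isAffineOpen_basicOpen _ (X1 k n j).1 (X1 k n j).2 Nat.one_pos
  have h1 : Function.Surjective (ι.appLE (Proj.basicOpen (CohB1.polyGrading n k) (X1 k n j).1)
      (ι ⁻¹ᵁ Proj.basicOpen (CohB1.polyGrading n k) (X1 k n j).1) le_rfl) := by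
    have h2 := ι.app_surjective _ hU
    rw [Scheme.Hom.app_eq_appLE] at h2
    exact h2
  have h3 : Function.Surjective (Proj.awayToSection (CohB1.polyGrading n k) (X1 k n j).1) :=
    (Proj.basicOpenIsoAway (CohB1.polyGrading n k) (X1 k n j).1 (X1 k n j).2
      Nat.one_pos).commRingCatIsoToRingEquiv.surjective
  exact (h1.comp h3).comp (deh_surjective (CohB1.polyGrading n k) (X1 k n j))

theorem isAffineOpen_W [IsClosedImmersion ι] : IsAffineOpen (W ι j) :=
  (Proj.isAffineOpen_basicOpen _ _ (X1 k n j).2 Nat.one_pos).preimage ι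

/-- The `k`-algebra structure of the ring of the chart. -/
noncomputable abbrev alg : Algebra k Γ(X, W ι j) := ((θ ι j).comp MvPolynomial.C).toAlgebra

theorem algebraMap_alg : @algebraMap k Γ(X, W ι j) _ _ (alg ι j) =
    CoordData.baseHom (ι ≫ CohB1.ProjSpace.toSpec n k) (W ι j) := by
  ext a
  exact θ_C ι j a

theorem aeval_eq (P : MvPolynomial (Fin (n + 1)) k) :
    letI := alg ι j
    (MvPolynomial.aeval (fun i => θ ι j (MvPolynomial.X i)) : _ →ₐ[k] Γ(X, W ι j)) P = θ ι j P := by
  letI := alg ι j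
  induction P using MvPolynomial.induction_on with
  | C c => rw [MvPolynomial.aeval_C]; rfl
  | add P Q hP hQ => rw [map_add, map_add, hP, hQ]
  | mul_X P i hP => rw [map_mul, map_mul, MvPolynomial.aeval_X, hP]

theorem θ_sum (h : CohB1.polyGrading n k 1) :
    letI := alg ι j
    θ ι j h = ∑ i, algebraMap k Γ(X, W ι j)
      (MvPolynomial.coeff (Finsupp.single i 1) (h : MvPolynomial (Fin (n + 1)) k)) * θ ι j (MvPolynomial.X i) := by
  letI := alg ι j
  conv_lhs => rw [linear_eq_sum h]
  rw [map_sum]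
  refine Finset.sum_congr rfl fun i _ => ?_
  rw [map_mul]
  rfl

theorem mem_W (x : X) (hj : (MvPolynomial.X j : MvPolynomial (Fin (n + 1)) k) ∉ (ι x).asHomogeneousIdeal) :
    x ∈ W ι j := hj

theorem exists_mem_W (x : X) : ∃ j, x ∈ W ι j := by
  have h1 : ⨆ j, Proj.basicOpen (CohB1.polyGrading n k) (X1 k n j).1 = ⊤ :=
    iSup_basicOpen_eq_top (CohB1.polyGrading n k) (X1 k n) MvPolynomial.adjoin_range_X
  have h2 : ι x ∈ ⨆ j, Proj.basicOpen (CohB1.polyGrading n k) (X1 k n j).1 := h1 ▸ trivial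
  obtain ⟨j, hj⟩ := Opens.mem_iSup.1 h2
  exact ⟨j, hj⟩

/-- The germ at `x` of the equation of the hyperplane section on the chart. -/
theorem germ_θ (x : X) (hj : (MvPolynomial.X j : MvPolynomial (Fin (n + 1)) k) ∉ (ι x).asHomogeneousIdeal)
    (h : CohB1.polyGrading n k 1) :
    X.presheaf.germ (W ι j) x (mem_W ι j x hj) (θ ι j h) =
      (ι.stalkMap x).hom ((Proj.stalkIso' (CohB1.polyGrading n k) (ι x)).symm
        (HomogeneousLocalization.mk ⟨1, h, ⟨MvPolynomial.X j, MvPolynomial.isHomogeneous_X k j⟩, hj⟩)) := by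
  rw [θ_lin]
  have h1 : (Proj.stalkIso' (CohB1.polyGrading n k) (ι x)).symm
        (HomogeneousLocalization.mk ⟨1, h, ⟨MvPolynomial.X j, MvPolynomial.isHomogeneous_X k j⟩, hj⟩) =
      (Proj (CohB1.polyGrading n k)).presheaf.germ (Proj.basicOpen (CohB1.polyGrading n k) (X1 k n j).1) (ι x) hj
        (ratio (CohB1.polyGrading n k) (X1 k n j) h) := by
    refine (RingEquiv.symm_apply_eq _).2 ?_
    refine Eq.trans ?_ (Proj.stalkIso'_germ (𝒜 := CohB1.polyGrading n k)
      (Proj.basicOpen (CohB1.polyGrading n k) (X1 k n j).1) (ι x) hj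
        (ratio (CohB1.polyGrading n k) (X1 k n j) h)).symm
    apply HomogeneousLocalization.val_injective
    exact (ratio_apply (CohB1.polyGrading n k) (X1 k n j) h ⟨ι x, hj⟩).symm
  rw [h1]
  exact (Scheme.Hom.germ_stalkMap_apply ι _ x hj _).symm

theorem mem_basicOpen_θ (x : X) (hx : x ∈ W ι j) (h : CohB1.polyGrading n k 1) :
    x ∈ X.basicOpen (θ ι j h) ↔ (h : MvPolynomial (Fin (n + 1)) k) ∉ (ι x).asHomogeneousIdeal := by
  rw [θ_lin, ← Scheme.preimage_basicOpen, basicOpen_ratio]
  constructor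
  · intro h1; exact h1.2
  · intro h1; exact ⟨hx, h1⟩

theorem isUnit_germ_iff (x : X) (hx : x ∈ W ι j) (h : CohB1.polyGrading n k 1) :
    IsUnit (X.presheaf.germ (W ι j) x hx (θ ι j h)) ↔
      (h : MvPolynomial (Fin (n + 1)) k) ∉ (ι x).asHomogeneousIdeal := by
  rw [← mem_basicOpen_θ ι j x hx h, Scheme.mem_basicOpen]

end chart

theorem covered (k : Type u) [CommRing k] (n : ℕ) :
    Groth.Agent.Ega2.TwistInv.CoveredByOne (CohB1.polyGrading n k) := by
  intro x
  have h1 : ⨆ j, Proj.basicOpen (CohB1.polyGrading n k) (X1 k n j).1 = ⊤ :=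
    iSup_basicOpen_eq_top (CohB1.polyGrading n k) (X1 k n) MvPolynomial.adjoin_range_X
  have h2 : x ∈ ⨆ j, Proj.basicOpen (CohB1.polyGrading n k) (X1 k n j).1 := h1 ▸ trivial
  obtain ⟨j, hj⟩ := Opens.mem_iSup.1 h2
  exact ⟨X1 k n j, Proj.basicOpen (CohB1.polyGrading n k) (X1 k n j).1, hj, fun y hy => hy⟩

theorem isInvertible (k : Type u) [CommRing k] (n : ℕ) : PicF.IsInvertible (Twist.twist (CohB1.polyGrading n k) 1) :=
  Groth.Agent.Ega2.TwistInv.isInvertible_twist (covered k n) 1

/-- The section of `O(1)` attached to a linear form. -/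
noncomputable def secOf (h : CohB1.polyGrading n k 1) :
    Coh.structureModule (Proj (CohB1.polyGrading n k)) ⟶ Twist.twist (CohB1.polyGrading n k) 1 :=
  Groth.Agent.Fdesc.LocGen.homOf (glob (CohB1.polyGrading n k) h)

theorem sec_secOf (h : CohB1.polyGrading n k 1) (j : Fin (n + 1)) :
    Groth.Agent.Fdesc.LocGen.sec (secOf h) (Proj.basicOpen (CohB1.polyGrading n k) (X1 k n j).1) =
      ratio (CohB1.polyGrading n k) (X1 k n j) h •
        Groth.Agent.Fdesc.LocGen.res (Twist.twist (CohB1.polyGrading n k) 1) le_top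
          (glob (CohB1.polyGrading n k) (X1 k n j)) := by
  rw [secOf, Groth.Agent.Fdesc.LocGen.sec_homOf, glob_eq_smul]

/-- The standard affine open. -/
noncomputable def Daff (k : Type u) [CommRing k] (n : ℕ) (j : Fin (n + 1)) :
    (Proj (CohB1.polyGrading n k)).affineOpens :=
  ⟨Proj.basicOpen (CohB1.polyGrading n k) (X1 k n j).1,
    Proj.isAffineOpen_basicOpen _ _ (X1 k n j).2 Nat.one_pos⟩

theorem ideal_zeroScheme (h : CohB1.polyGrading n k 1) (j : Fin (n + 1)) :
    (PicF2.zeroScheme (Twist.twist (CohB1.polyGrading n k) 1) (secOf h)).ideal (Daff k n j) =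
      Ideal.span {ratio (CohB1.polyGrading n k) (X1 k n j) h} :=
  Groth.Agent.Pi1C.ZeroScheme.ideal_eq_span (secOf h) (isInvertible k n) (Daff k n j)
    (isGen_glob (CohB1.polyGrading n k) (X1 k n j)) (sec_secOf h j)

theorem mem_support_iff (h : CohB1.polyGrading n k 1) (y : Proj (CohB1.polyGrading n k)) :
    y ∈ (PicF2.zeroScheme (Twist.twist (CohB1.polyGrading n k) 1) (secOf h)).support ↔
      (h : MvPolynomial (Fin (n + 1)) k) ∈ y.asHomogeneousIdeal := by
  have h1 : ⨆ j, Proj.basicOpen (CohB1.polyGrading n k) (X1 k n j).1 = ⊤ :=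
    iSup_basicOpen_eq_top (CohB1.polyGrading n k) (X1 k n) MvPolynomial.adjoin_range_X
  have h2 : y ∈ ⨆ j, Proj.basicOpen (CohB1.polyGrading n k) (X1 k n j).1 := h1 ▸ trivial
  obtain ⟨j, hj⟩ := Opens.mem_iSup.1 h2
  rw [Groth.Agent.Pi1C.ZeroScheme.mem_support_iff (secOf h) (isInvertible k n)]
  have h3 : CohB1.genLocus _ (secOf h) ⊓ (Proj.basicOpen (CohB1.polyGrading n k) (X1 k n j).1) =
      (Proj (CohB1.polyGrading n k)).basicOpen (ratio (CohB1.polyGrading n k) (X1 k n j) h) :=
    Groth.Agent.Fdesc.LocGen.genLocus_inf_eq (secOf h) (isGen_glob (CohB1.polyGrading n k) (X1 k n j))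
      (sec_secOf h j)
  rw [basicOpen_ratio] at h3
  constructor
  · intro hy
    by_contra hh
    have : y ∈ CohB1.genLocus _ (secOf h) ⊓ (Proj.basicOpen (CohB1.polyGrading n k) (X1 k n j).1) := by
      rw [h3]; exact ⟨hj, hh⟩
    exact hy this.1
  · intro hh hy
    have : y ∈ CohB1.genLocus _ (secOf h) ⊓ (Proj.basicOpen (CohB1.polyGrading n k) (X1 k n j).1) := ⟨hy, hj⟩
    rw [h3] at this
    exact this.2 hh


end K861.ProjSec
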