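import Groth.Agent.RedSub.K861.BC

/-!
# Transversal hyperplane sections over a base ring
-/

set_option autoImplicit false
universe u
open CategoryTheory CategoryTheory.Limits AlgebraicGeometry TopologicalSpace Opposite
open Groth.Agent Groth.Agent.VarietyB Groth.Agent.VarietyB.ProjHom Groth.Agent.VarietyB.ProjGlue
open Groth.Agent.Lefpen.H872.RelCI Groth.Agent.Lefpen.H872.RelBase Groth.Agent.CohqB.ProjBC
open Groth.Agent.Fdesc.LocGen
open K861.ProjSec K861.BC K861.Rel

namespace K861.Sect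

variable {A : Type u} [CommRing A] {n : ℕ} {X : Scheme.{u}} (ι : X ⟶ CohB1.ProjSpace n A) (h : RForm n A 1)

/-- The ideal of the hyperplane section. -/
noncomputable abbrev J : X.IdealSheafData := (rhypIdeal h).comap ι

/-- The chart as an affine open. -/
noncomputable abbrev Waff [IsClosedImmersion ι] (j : Fin (n + 1)) : X.affineOpens := ⟨W ι j, isAffineOpen_W' ι j⟩

theorem J_ideal [IsClosedImmersion ι] (j : Fin (n + 1)) :
    (J ι h).ideal (Waff ι j) = Ideal.span {θ ι j h} := by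
  have h1 := Groth.Agent.Divis.IdealComap.ideal_comap (rhypIdeal h) ι ⟨rchart n A j, isAffineOpen_rchart j⟩
    (Waff ι j) (le_refl (ι ⁻¹ᵁ rchart n A j))
  rw [rhypIdeal_ideal_of_le h j _ le_rfl, ores_refl, Ideal.map_span, Set.image_singleton] at h1
  rw [θ_eq, Scheme.Hom.app_eq_appLE]
  exact h1

theorem mem_support_iff [hι : IsClosedImmersion ι] (x : X) :
    x ∈ (J ι h).support ↔ (h : MvPolynomial (Fin (n + 1)) A) ∈ (ι x).asHomogeneousIdeal := by
  obtain ⟨j, hj⟩ := exists_mem_W ι x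
  rw [Scheme.IdealSheafData.mem_support_iff_of_mem (U := Waff ι j) hj, J_ideal, Scheme.zeroLocus_span]
  rw [Scheme.mem_zeroLocus_iff]
  simp only [Set.mem_singleton_iff, forall_eq]
  rw [mem_basicOpen_θ ι j x hj h, not_not]
  exact Iff.rfl

theorem fromSpec_comp (p : X ⟶ Spec (CommRingCat.of A)) {U : X.Opens} (hU : IsAffineOpen U) :
    hU.fromSpec ≫ p = Spec.map (CommRingCat.ofHom (CoordData.baseHom p U)) := by
  have h1 := ProjStd.toSpecΓ_baseHom (R := A) (p := p) (V := U)
  rw [← hU.isoSpec_hom] at h1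
  rw [← cancel_epi hU.isoSpec.hom, h1, ← Category.assoc, IsAffineOpen.fromSpec, Iso.hom_inv_id_assoc]

/-- The relative dimension drops for transversal hyperplane sections, at one point. -/
theorem exists_at [IsClosedImmersion ι] (D : ℕ) (hD : RD (ι ≫ CohB1.ProjSpace.toSpec n A) D)
    (hT : ∀ (j : Fin (n + 1)) (q : Ideal Γ(X, W ι j)) [q.IsPrime],
      (q.comap (@algebraMap A Γ(X, W ι j) _ _ (alg ι j))).IsMaximal → θ ι j h ∈ q →
      letI := alg ι j
      (1 : q.ResidueField) ⊗ₜ[Γ(X, W ι j)] KaehlerDifferential.D A Γ(X, W ι j) (θ ι j h) ≠ 0)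
    (z : (J ι h).subscheme) (hz : IsClosed {((J ι h).subschemeι ≫ ι ≫ CohB1.ProjSpace.toSpec n A) z}) :
    1 ≤ D ∧ ∃ m ≤ D - 1, ∃ (V : Scheme.{u}) (v : V ⟶ (J ι h).subscheme), IsOpenImmersion v ∧
      z ∈ Set.range v ∧ SmoothOfRelativeDimension m (v ≫ (J ι h).subschemeι ≫ ι ≫ CohB1.ProjSpace.toSpec n A) := by
  obtain ⟨j, hj⟩ := exists_mem_W ι ((J ι h).subschemeι z)
  let B := Γ(X, W ι j)
  let C := Γ(X, W ι j) ⧸ (J ι h).ideal (Waff ι j)
  let u : Spec (CommRingCat.of C) ⟶ (J ι h).subscheme := (J ι h).subschemeCover.f (Waff ι j)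
  have hu : IsOpenImmersion u := (J ι h).subschemeCover.map_prop (Waff ι j)
  have h1 : z ∈ u.opensRange := by
    have h2 : u.opensRange = (J ι h).subschemeι ⁻¹ᵁ (Waff ι j).1 := (J ι h).opensRange_subschemeCover_map _
    rw [h2]; exact hj
  obtain ⟨q', hq⟩ := h1
  let q : PrimeSpectrum C := q'
  change u q = z at hq
  let _ : Algebra A B := alg ι j
  let _ : Algebra A C := ((algebraMap B C).comp (algebraMap A B)).toAlgebra
  have _ : IsScalarTower A B C := IsScalarTower.of_algebraMap_eq fun x => rfl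
  have hC : u ≫ (J ι h).subschemeι ≫ ι ≫ CohB1.ProjSpace.toSpec n A =
      Spec.map (CommRingCat.ofHom (algebraMap A C)) := by
    refine (K658.SecSmooth.cover_comp (ι ≫ CohB1.ProjSpace.toSpec n A) (J ι h) (Waff ι j)).trans ?_
    rw [← algebraMap_alg' ι j]
  have hw : (isAffineOpen_W' ι j).fromSpec ≫ ι ≫ CohB1.ProjSpace.toSpec n A =
      Spec.map (CommRingCat.ofHom (algebraMap A B)) := by
    rw [fromSpec_comp, ← algebraMap_alg' ι j]
  have hker : RingHom.ker (algebraMap B C) = Ideal.span {θ ι j h} := by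
    refine Eq.trans ?_ (J_ideal ι h j)
    exact Ideal.mk_ker
  have hmax : ((q.asIdeal.comap (algebraMap B C)).comap (algebraMap A B)).IsMaximal := by
    rw [← hq, ← Scheme.Hom.comp_apply, hC] at hz
    exact (PrimeSpectrum.isClosed_singleton_iff_isMaximal _).1 hz
  have hmem : θ ι j h ∈ q.asIdeal.comap (algebraMap B C) := by
    have h2 : algebraMap B C (θ ι j h) = 0 := by
      rw [← RingHom.mem_ker, hker]
      exact Ideal.subset_span rfl
    rw [Ideal.mem_comap, h2]
    exact zero_mem _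
  have hqp : (q.asIdeal.comap (algebraMap B C)).IsPrime := Ideal.comap_isPrime _ _
  have hst : IsScalarTower A Γ(X, W ι j) C := ‹IsScalarTower A B C›
  obtain ⟨h3, m, hm, V, v, hv, hqv, hsrd⟩ := @exists_section A Γ(X, W ι j) _ _ (alg ι j) C _ _ _ hst X
    _ (isAffineOpen_W' ι j).fromSpec inferInstance hw D hD Ideal.Quotient.mk_surjective (θ ι j h) hker q (hT j _ hmax hmem)
  refine ⟨h3, m, hm, V, v ≫ u, inferInstance, ?_, ?_⟩
  · obtain ⟨y, hy⟩ := hqv
    exact ⟨y, by rw [Scheme.Hom.comp_apply, hy, hq]⟩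
  · rw [Category.assoc, hC]
    exact hsrd

/-- A nonempty closed subset of the spectrum of a ring contains a closed point. -/
theorem exists_closed_point (S : Set (Spec (CommRingCat.of A))) (hS : IsClosed S) (hne : S.Nonempty) :
    ∃ s ∈ S, IsClosed ({s} : Set (Spec (CommRingCat.of A))) :=
  hS.exists_closed_singleton hne

theorem isProper_comp [IsClosedImmersion ι] : IsProper (ι ≫ CohB1.ProjSpace.toSpec n A) := by
  have h1 : IsProper (CohB1.ProjSpace.toSpec n A) := Groth.Agent.Ega3B.ProjProper.isProper_toSpec n A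
  have h2 : IsProper ι := inferInstance
  exact MorphismProperty.comp_mem @IsProper _ _ h2 h1

/-- The relative dimension drops for transversal hyperplane sections. -/
theorem RD_section [IsClosedImmersion ι] (D : ℕ) (hD : RD (ι ≫ CohB1.ProjSpace.toSpec n A) D)
    (hT : ∀ (j : Fin (n + 1)) (q : Ideal Γ(X, W ι j)) [q.IsPrime],
      (q.comap (@algebraMap A Γ(X, W ι j) _ _ (alg ι j))).IsMaximal → θ ι j h ∈ q →
      letI := alg ι j
      (1 : q.ResidueField) ⊗ₜ[Γ(X, W ι j)] KaehlerDifferential.D A Γ(X, W ι j) (θ ι j h) ≠ 0) :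
    RD ((J ι h).subschemeι ≫ ι ≫ CohB1.ProjSpace.toSpec n A) (D - 1) ∧
      (Nonempty (J ι h).subscheme → 1 ≤ D) := by
  let f := (J ι h).subschemeι ≫ ι ≫ CohB1.ProjSpace.toSpec n A
  have hp : IsProper f := by
    have h1 := isProper_comp ι
    have h2 : IsProper (J ι h).subschemeι := inferInstance
    exact MorphismProperty.comp_mem @IsProper _ _ h2 h1
  have hcl : IsClosedMap f := f.isClosedMap
  have hat := exists_at ι h D hD hT
  constructor
  · let P : (J ι h).subscheme → Prop := fun z => ∃ m ≤ D - 1, ∃ (V : Scheme.{u}) (v : V ⟶ (J ι h).subscheme),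
      IsOpenImmersion v ∧ z ∈ Set.range v ∧ SmoothOfRelativeDimension m (v ≫ f)
    have hopen : IsOpen {z | P z} := by
      rw [isOpen_iff_forall_mem_open]
      rintro z ⟨m, hm, V, v, hv, hz, hs⟩
      exact ⟨Set.range v, fun z' hz' => ⟨m, hm, V, v, hv, hz', hs⟩, v.isOpenEmbedding.isOpen_range, hz⟩
    by_contra hcon
    change ¬ ∀ z, P z at hcon
    push Not at hcon
    obtain ⟨z₀, hz₀⟩ := hcon
    obtain ⟨s, ⟨z, hz, rfl⟩, hs⟩ := exists_closed_point _ (hcl _ hopen.isClosed_compl) ⟨f z₀, z₀, hz₀, rfl⟩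
    exact hz (hat z hs).2
  · rintro ⟨z₀⟩
    obtain ⟨s, ⟨z, hz, rfl⟩, hs⟩ := exists_closed_point _ (hcl _ isClosed_univ) ⟨f z₀, z₀, trivial, rfl⟩
    exact (hat z hs).1

end K861.Sect
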