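import Groth.Agent.SmVar.K658.AffBertini
import Mathlib.RingTheory.Flat.FaithfullyFlat.Basic
import Mathlib.Algebra.MvPolynomial.Funext

/-!
# Transversality of an element of an algebra over a base ring, functoriality
-/

set_option autoImplicit false
universe u
open TensorProduct Algebra KaehlerDifferential K658.AffBertini

namespace K861.Trans

/-- Functoriality of the vanishing of the differential of an element at a prime. -/
theorem vanish_map {R B R' B' : Type u} [CommRing R] [CommRing B] [CommRing R'] [CommRing B']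
    [Algebra R B] [Algebra R' B'] [Algebra B B'] [Algebra R R'] [Algebra R B'] [IsScalarTower R B B']
    [IsScalarTower R R' B'] (q : Ideal B') [q.IsPrime] (p : Ideal B) [p.IsPrime]
    (hp : p = q.comap (algebraMap B B')) (t : B) (h0 : (1 : p.ResidueField) ⊗ₜ[B] D R B t = 0) :
    (1 : q.ResidueField) ⊗ₜ[B'] D R' B' (algebraMap B B' t) = 0 := by
  let φ : p.ResidueField →+* q.ResidueField := Ideal.ResidueField.map p q (algebraMap B B') hp
  have hφ : ∀ b : B, φ (algebraMap B p.ResidueField b) = algebraMap B q.ResidueField b := by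
    intro b
    rw [IsScalarTower.algebraMap_apply B B' q.ResidueField]
    exact Ideal.ResidueField.map_algebraMap _ _ _ _ _
  let φl : p.ResidueField →ₗ[B] q.ResidueField :=
    { toFun := φ
      map_add' := map_add φ
      map_smul' := fun b x => by
        rw [Algebra.smul_def, map_mul, hφ, RingHom.id_apply, Algebra.smul_def] }
  let g : p.ResidueField ⊗[B] Ω[B⁄R] →ₗ[B] q.ResidueField ⊗[B] Ω[B'⁄R'] :=
    TensorProduct.map φl (KaehlerDifferential.map R R' B B')
  let g' := TensorProduct.mapOfCompatibleSMul B' B B q.ResidueField Ω[B'⁄R']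
  have h1 := congrArg g' (congrArg g h0)
  rw [map_zero, map_zero] at h1
  have h2 : g' (g ((1 : p.ResidueField) ⊗ₜ[B] D R B t)) =
      (1 : q.ResidueField) ⊗ₜ[B'] D R' B' (algebraMap B B' t) := by
    have h3 : φl 1 = 1 := map_one φ
    simp only [g, g', TensorProduct.map_tmul, KaehlerDifferential.map_D, h3]
    rfl
  rw [← h2, h1]

/-- Transversality is invariant under isomorphisms. -/
theorem transv_of_algEquiv {K B B' : Type u} [CommRing K] [CommRing B] [CommRing B'] [Algebra K B] [Algebra K B']
    (e : B ≃ₐ[K] B') (t : B) (ht : Transv K t) : Transv K (e t) := by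
  intro q _ htq h0
  let p : Ideal B := q.comap e.toAlgHom
  have hpp : p.IsPrime := Ideal.comap_isPrime _ _
  refine ht p htq ?_
  let _ : Algebra B' B := (e.symm.toAlgHom.toRingHom).toAlgebra
  have : IsScalarTower K B' B := IsScalarTower.of_algebraMap_eq fun x => (e.symm.commutes x).symm
  have h1 := vanish_map (R := K) (B := B') (R' := K) (B' := B) p q ?_ (e t) h0
  · have h2 : algebraMap B' B (e t) = t := e.symm_apply_apply t
    rwa [h2] at h1
  · ext x
    change x ∈ q ↔ e (e.symm x) ∈ q
    rw [e.apply_symm_apply]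

/-- Two fields over a ring whose structure maps have the same kernel have a common extension. -/
theorem exists_common {R : Type u} [CommRing R] (K L : Type u) [Field K] [Field L] [Algebra R K] [Algebra R L]
    (h : RingHom.ker (algebraMap R K) = RingHom.ker (algebraMap R L)) :
    ∃ (Ω : Type u) (_ : Field Ω) (f : K →+* Ω) (g : L →+* Ω), f.comp (algebraMap R K) = g.comp (algebraMap R L) := by
  let p : Ideal R := RingHom.ker (algebraMap R K)
  have hp : p.IsPrime := RingHom.ker_isPrime _
  let f₀ : p.ResidueField →+* K := Ideal.ResidueField.lift p (algebraMap R K) le_rfl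
    (fun x hx => by
      have : algebraMap R K x ≠ 0 := hx
      exact (isUnit_iff_ne_zero.2 this))
  let g₀ : p.ResidueField →+* L := Ideal.ResidueField.lift p (algebraMap R L) h.le
    (fun x hx => by
      have h1 : x ∉ RingHom.ker (algebraMap R L) := by rw [← h]; exact hx
      exact (isUnit_iff_ne_zero.2 h1))
  let _ := f₀.toAlgebra
  let _ := g₀.toAlgebra
  have hnt : Nontrivial (K ⊗[p.ResidueField] L) := inferInstance
  obtain ⟨M, hM⟩ := Ideal.exists_maximal (K ⊗[p.ResidueField] L)
  let _ : Field ((K ⊗[p.ResidueField] L) ⧸ M) := Ideal.Quotient.field M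
  refine ⟨(K ⊗[p.ResidueField] L) ⧸ M, inferInstance,
    (Ideal.Quotient.mk M).comp (Algebra.TensorProduct.includeLeftRingHom),
    (Ideal.Quotient.mk M).comp (Algebra.TensorProduct.includeRight (R := p.ResidueField) (A := K) (B := L)).toRingHom, ?_⟩
  ext x
  have h1 : f₀ (algebraMap R p.ResidueField x) = algebraMap R K x := Ideal.ResidueField.lift_algebraMap _ _ _ _ _
  have h2 : g₀ (algebraMap R p.ResidueField x) = algebraMap R L x := Ideal.ResidueField.lift_algebraMap _ _ _ _ _
  change Ideal.Quotient.mk M ((algebraMap R K x) ⊗ₜ[p.ResidueField] 1) =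
    Ideal.Quotient.mk M ((1 : K) ⊗ₜ[p.ResidueField] (algebraMap R L x))
  rw [← h1, ← h2]
  change Ideal.Quotient.mk M ((algebraMap p.ResidueField K (algebraMap R p.ResidueField x)) ⊗ₜ[p.ResidueField] 1) =
    Ideal.Quotient.mk M ((1 : K) ⊗ₜ[p.ResidueField] (algebraMap p.ResidueField L (algebraMap R p.ResidueField x)))
  rw [Algebra.algebraMap_eq_smul_one, Algebra.algebraMap_eq_smul_one (A := L), TensorProduct.smul_tmul]

/-- Transversality at a prime can be checked after base change to a field. -/
theorem ne_zero_of_transv {R B K : Type u} [CommRing R] [CommRing B] [Field K] [Algebra R B] [Algebra R K]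
    (t : B) (ht : Transv K ((1 : K) ⊗ₜ[R] t)) (q : Ideal B) [q.IsPrime] (htq : t ∈ q)
    (hq : q.comap (algebraMap R B) = RingHom.ker (algebraMap R K)) :
    (1 : q.ResidueField) ⊗ₜ[B] D R B t ≠ 0 := by
  intro h0
  have hker : RingHom.ker (algebraMap R K) = RingHom.ker (algebraMap R q.ResidueField) := by
    rw [← hq]
    ext x
    rw [Ideal.mem_comap, RingHom.mem_ker, IsScalarTower.algebraMap_apply R B q.ResidueField,
      Ideal.algebraMap_residueField_eq_zero]
  obtain ⟨Ω, _, f, g, hfg⟩ := exists_common (R := R) K q.ResidueField hker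
  let _ : Algebra R Ω := (f.comp (algebraMap R K)).toAlgebra
  let fA : K →ₐ[R] Ω := { f with commutes' := fun x => rfl }
  let gB : B →ₐ[R] Ω := { g.comp (algebraMap B q.ResidueField) with
    commutes' := fun x => by
      change g (algebraMap B q.ResidueField (algebraMap R B x)) = f (algebraMap R K x)
      rw [← IsScalarTower.algebraMap_apply]
      exact (RingHom.congr_fun hfg x).symm }
  let π : K ⊗[R] B →ₐ[R] Ω := Algebra.TensorProduct.lift fA gB fun _ _ => .all _ _
  let q' : Ideal (K ⊗[R] B) := RingHom.ker π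
  have hq' : q'.IsPrime := RingHom.ker_isPrime _
  let _ : Algebra B (K ⊗[R] B) := (Algebra.TensorProduct.includeRight (R := R) (A := K) (B := B)).toRingHom.toAlgebra
  have hst : IsScalarTower R B (K ⊗[R] B) := IsScalarTower.of_algebraMap_eq fun x =>
    ((Algebra.TensorProduct.includeRight (R := R) (A := K) (B := B)).commutes x).symm
  have hπ : ∀ b : B, π ((1 : K) ⊗ₜ[R] b) = g (algebraMap B q.ResidueField b) := by
    intro b
    rw [Algebra.TensorProduct.lift_tmul, map_one, one_mul]
    rfl
  have hcomap : q = q'.comap (algebraMap B (K ⊗[R] B)) := by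
    ext b
    change b ∈ q ↔ π ((1 : K) ⊗ₜ[R] b) = 0
    rw [hπ, map_eq_zero, Ideal.algebraMap_residueField_eq_zero]
  have h1 := vanish_map (R := R) (B := B) (R' := K) (B' := K ⊗[R] B) q' q hcomap t h0
  refine ht q' ?_ h1
  change π ((1 : K) ⊗ₜ[R] t) = 0
  rw [hπ, (Ideal.algebraMap_residueField_eq_zero).2 htq, map_zero]

/-- Over an infinite field there are transversal linear combinations. -/
theorem exists_good {K : Type u} [Field K] [Infinite K] (n : ℕ) (B : Fin (n + 1) → Type u) [∀ j, CommRing (B j)]
    [∀ j, Algebra K (B j)] [∀ j, Algebra.Smooth K (B j)] (y : ∀ j, Fin (n + 1) → B j) (hy : ∀ j, y j j = 1)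
    (hs : ∀ j, Function.Surjective (MvPolynomial.aeval (y j) : MvPolynomial (Fin (n + 1)) K →ₐ[K] B j)) :
    ∃ c : Fin (n + 1) → K, ∀ j, Transv K (∑ i, algebraMap K (B j) (c i) * y j i) := by
  have key := fun j => exists_polynomial (k := K) n (y j) j (hy j) (hs j)
  choose G hG0 hG using key
  obtain ⟨c, hc⟩ : ∃ c : Fin (n + 1) → K, MvPolynomial.eval c (∏ j, G j) ≠ 0 := by
    by_contra hcon
    push Not at hcon
    refine (Finset.prod_ne_zero_iff.2 fun j _ => hG0 j : ∏ j, G j ≠ 0) ?_
    exact MvPolynomial.funext fun c => by rw [hcon c, map_zero]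
  refine ⟨c, fun j => hG j c fun h => hc ?_⟩
  rw [map_prod]
  exact Finset.prod_eq_zero (Finset.mem_univ j) h

/-- Base change form of `exists_good`. -/
theorem exists_good_tensor {A K : Type u} [CommRing A] [Field K] [Algebra A K] [Infinite K] (n : ℕ)
    (B : Fin (n + 1) → Type u) [∀ j, CommRing (B j)]
    [∀ j, Algebra A (B j)] [∀ j, Algebra.Smooth A (B j)] (y : ∀ j, Fin (n + 1) → B j) (hy : ∀ j, y j j = 1)
    (hs : ∀ j, Function.Surjective (MvPolynomial.aeval (y j) : MvPolynomial (Fin (n + 1)) A →ₐ[A] B j)) :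
    ∃ c : Fin (n + 1) → K, ∀ j, Transv K (∑ i, c i ⊗ₜ[A] y j i : K ⊗[A] B j) := by
  obtain ⟨c, hc⟩ := exists_good (K := K) n (fun j => K ⊗[A] B j) (fun j i => 1 ⊗ₜ y j i)
    (fun j => by rw [hy]; rfl) (fun j => by
      rw [← AlgHom.range_eq_top, _root_.eq_top_iff]
      rintro z -
      induction z using TensorProduct.induction_on with
      | zero => exact zero_mem _
      | add a b ha hb => exact add_mem ha hb
      | tmul x b =>
        obtain ⟨P, rfl⟩ := hs j b
        refine ⟨MvPolynomial.C x * MvPolynomial.map (algebraMap A K) P, ?_⟩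
        change MvPolynomial.aeval _ _ = _
        rw [map_mul, MvPolynomial.aeval_C, Algebra.TensorProduct.algebraMap_apply, Algebra.algebraMap_self_apply]
        have : (MvPolynomial.aeval (fun i => (1 : K) ⊗ₜ[A] y j i) : _ →ₐ[K] K ⊗[A] B j)
            (MvPolynomial.map (algebraMap A K) P) = (1 : K) ⊗ₜ[A] (MvPolynomial.aeval (y j) P) := by
          rw [MvPolynomial.aeval_map_algebraMap]
          exact (MvPolynomial.comp_aeval_apply (y j)
            (Algebra.TensorProduct.includeRight (R := A) (A := K) (B := B j)) P).symm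
        rw [this, Algebra.TensorProduct.tmul_mul_tmul, mul_one, one_mul])
  refine ⟨c, fun j => ?_⟩
  have h1 := hc j
  simp only [Algebra.TensorProduct.algebraMap_apply, Algebra.algebraMap_self_apply,
    Algebra.TensorProduct.tmul_mul_tmul, mul_one, one_mul] at h1
  exact h1

end K861.Trans
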